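import Cfsg.Agent.Lib.Golay.M24
import Cfsg.Agent.Lib.Comp.PermChain
import Mathlib.GroupTheory.Sylow

/-!
Elements and subgroups of M24 given by byte codes, for kernel computation: transport between
permutations of the 24 points and of `Fin 24`, tests, fixed point counts, element lists of generated
subgroups, and conjugacy into a checked Sylow subgroup.
-/

set_option autoImplicit false

namespace CfsgLib.M24Elt

open Cfsg CfsgLib.Comp CfsgLib.Golay
open scoped Pointwise

/-- The points numbered by bit position. -/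
def num : GolayPt ≃ Fin 24 where
  toFun a := ⟨bit a, bit_lt a⟩
  invFun i := Golay.pt i
  left_inv a := pt_bit a
  right_inv i := Fin.ext (bit_pt i.2)

/-- Permutations of the points as permutations of `Fin 24`. -/
def toFin : Equiv.Perm GolayPt ≃* Equiv.Perm (Fin 24) := Equiv.permCongrHom num

/-- The permutation of the points with byte code `c`. -/
noncomputable def pm (c : ℕ) : Equiv.Perm GolayPt := toFin.symm (PermCode.val 24 c)

theorem toFin_pm (c : ℕ) : toFin (pm c) = PermCode.val 24 c := toFin.apply_symm_apply _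

theorem toFin_apply (g : Equiv.Perm GolayPt) (i : Fin 24) : toFin g i = num (g (num.symm i)) := rfl

theorem num_pm (c : ℕ) (p : GolayPt) : num (pm c p) = PermCode.val 24 c (num p) := by
  have e := toFin_apply (pm c) (num p)
  rw [toFin_pm, Equiv.symm_apply_apply] at e
  exact e.symm

theorem bit_pm {c : ℕ} (h : PermCode.Ok 24 c) (p : GolayPt) :
    bit (pm c p) = PermCode.get c (bit p) :=
  (congrArg Fin.val (num_pm c p)).trans (PermCode.val_apply h _)

theorem app_eq_get (c i : ℕ) : app c i = PermCode.get c i := by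
  rw [PermCode.get_def]
  exact Nat.and_two_pow_sub_one_eq_mod (c >>> (8 * i)) 8

theorem isPermOf_pm {c : ℕ} (h : PermCode.Ok 24 c) : IsPermOf (pm c) c := fun p => by
  rw [app_eq_get, bit_pm h]

theorem pm_mul {a b : ℕ} (ha : PermCode.Ok 24 a) (hb : PermCode.Ok 24 b) :
    pm (PermCode.mul 24 a b) = pm a * pm b := by
  simp only [pm, PermCode.val_mul (by norm_num) ha hb, map_mul]

theorem ok_pm_mul {a b : ℕ} (ha : PermCode.Ok 24 a) (hb : PermCode.Ok 24 b) :
    PermCode.Ok 24 (PermCode.mul 24 a b) := PermCode.ok_mul (by norm_num) ha hb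

theorem ok_code_one : PermCode.Ok 24 (PermCode.one 24) := PermCode.ok_one (by norm_num)

theorem pm_one : pm (PermCode.one 24) = 1 := by
  simp only [pm, PermCode.val_one (show (24 : ℕ) ≤ 256 by norm_num), map_one]

/-- Membership test. -/
noncomputable def good (c : ℕ) : Bool := PermCode.okb 24 c && inM24 c

theorem good_ok {c : ℕ} (h : good c = true) : PermCode.Ok 24 c := by
  simp only [good, Bool.and_eq_true] at h
  exact PermCode.ok_of_okb h.1

theorem pm_mem {c : ℕ} (h : good c = true) : pm c ∈ M24 := by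
  have h' := h
  simp only [good, Bool.and_eq_true] at h'
  exact mem_M24_of_inM24 (isPermOf_pm (good_ok h)) h'.2

/-- Agreement of two codes on the first `n` points. -/
noncomputable def agree (n a b : ℕ) : Bool :=
  PermCode.allLt n fun i => Nat.beq (PermCode.get a i) (PermCode.get b i)

/-- Equality test of the permutations coded. -/
noncomputable def eqc (a b : ℕ) : Bool := agree 24 a b

theorem pm_eq_of_eqc {a b : ℕ} (ha : PermCode.Ok 24 a) (hb : PermCode.Ok 24 b) (h : eqc a b = true) :
    pm a = pm b := by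
  apply Equiv.ext
  intro p
  apply bit_injective
  rw [bit_pm ha, bit_pm hb]
  simp only [eqc, agree] at h
  exact Nat.eq_of_beq_eq_true (PermCode.allLt_spec h _ (bit_lt p))

theorem eqc_of_pm_eq {a b : ℕ} (ha : PermCode.Ok 24 a) (hb : PermCode.Ok 24 b) (h : pm a = pm b) :
    eqc a b = true := by
  simp only [eqc, agree]
  refine PermCode.allLt_of fun i hi => ?_
  have e : PermCode.get a i = PermCode.get b i := by
    have := congrArg (fun σ : Equiv.Perm GolayPt => bit (σ (Golay.pt i))) h
    simpa [bit_pm ha, bit_pm hb, bit_pt hi] using this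
  rw [e]; exact Nat.beq_refl _

/-- Test for the identity. -/
noncomputable def isOne (c : ℕ) : Bool := eqc c (PermCode.one 24)

theorem isOne_of_pm {c : ℕ} (h : PermCode.Ok 24 c) (e : pm c = 1) : isOne c = true :=
  eqc_of_pm_eq h ok_code_one (e.trans pm_one.symm)

theorem pm_eq_one {c : ℕ} (h : PermCode.Ok 24 c) (e : isOne c = true) : pm c = 1 :=
  (pm_eq_of_eqc h ok_code_one e).trans pm_one

theorem pm_ne_one {c : ℕ} (h : PermCode.Ok 24 c) (e : isOne c = false) : pm c ≠ 1 := fun e' =>
  Bool.noConfusion (e.symm.trans (isOne_of_pm h e'))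

/-- Powers of a code. -/
noncomputable def powN (n c k : ℕ) : ℕ :=
  Nat.rec (PermCode.one n) (fun _ ih => PermCode.mul n ih c) k

/-- Powers of a code on 24 points. -/
noncomputable def powc (c k : ℕ) : ℕ := powN 24 c k

theorem powN_spec {n : ℕ} (hn : n ≤ 256) {c : ℕ} (hc : PermCode.Ok n c) (k : ℕ) :
    PermCode.Ok n (powN n c k) ∧ PermCode.val n (powN n c k) = PermCode.val n c ^ k := by
  induction k with
  | zero => exact ⟨PermCode.ok_one hn, (PermCode.val_one hn).trans (pow_zero _).symm⟩
  | succ k ih =>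
    exact ⟨PermCode.ok_mul hn ih.1 hc,
      (PermCode.val_mul hn ih.1 hc).trans (by rw [ih.2, pow_succ])⟩

theorem powc_ok {c : ℕ} (hc : PermCode.Ok 24 c) (k : ℕ) : PermCode.Ok 24 (powc c k) :=
  (powN_spec (by norm_num) hc k).1

theorem pm_powc {c : ℕ} (hc : PermCode.Ok 24 c) (k : ℕ) : pm (powc c k) = pm c ^ k := by
  simp only [pm, powc, (powN_spec (by norm_num) hc k).2, map_pow]

theorem orderOf_pm {c p : ℕ} [hp : Fact p.Prime] (hc : PermCode.Ok 24 c)
    (h1 : isOne (powc c p) = true) (h2 : isOne c = false) : orderOf (pm c) = p :=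
  orderOf_eq_prime (by rw [← pm_powc hc, pm_eq_one (powc_ok hc p) h1]) (pm_ne_one hc h2)

/-! ### Fixed points -/

/-- Fixed points of a code among the first `k`. -/
noncomputable def fixUpto (c k : ℕ) : ℕ :=
  Nat.rec 0 (fun i ih => Nat.add ih (bif Nat.beq (PermCode.get c i) i then 1 else 0)) k

/-- Fixed points of a code. -/
noncomputable def fixN (c : ℕ) : ℕ := fixUpto c 24

theorem fixUpto_succ (c k : ℕ) :
    fixUpto c (k + 1) = fixUpto c k + (bif Nat.beq (PermCode.get c k) k then 1 else 0) := rfl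

theorem fixUpto_eq (c k : ℕ) :
    fixUpto c k = ((Finset.range k).filter fun i => PermCode.get c i = i).card := by
  induction k with
  | zero => rfl
  | succ k ih =>
    rw [fixUpto_succ, ih, Finset.range_add_one, Finset.filter_insert]
    cases h : Nat.beq (PermCode.get c k) k
    · rw [if_neg (fun e => by rw [e, Nat.beq_refl] at h; exact Bool.noConfusion h)]; rfl
    · rw [if_pos (Nat.eq_of_beq_eq_true h), Finset.card_insert_of_notMem (by simp)]; rfl

/-- The number of fixed points of a permutation of the points. -/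
def fixCard (g : Equiv.Perm GolayPt) : ℕ := (Finset.univ.filter fun p => g p = p).card

theorem fixCard_conj (g h : Equiv.Perm GolayPt) : fixCard (h * g * h⁻¹) = fixCard g := by
  symm
  apply Finset.card_equiv h
  intro a
  rw [Finset.mem_filter, Finset.mem_filter]
  simp

theorem fixCard_pm {c : ℕ} (h : PermCode.Ok 24 c) : fixCard (pm c) = fixN c := by
  rw [fixN, fixUpto_eq, fixCard]
  refine Finset.card_bij (fun a _ => bit a) ?_ ?_ ?_
  · intro a ha
    refine Finset.mem_filter.2 ⟨Finset.mem_range.2 (bit_lt a), ?_⟩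
    rw [← bit_pm h, (Finset.mem_filter.1 ha).2]
  · exact fun a _ b _ e => bit_injective e
  · intro i hi
    obtain ⟨hi, hf⟩ := Finset.mem_filter.1 hi
    rw [Finset.mem_range] at hi
    refine ⟨Golay.pt i, Finset.mem_filter.2 ⟨Finset.mem_univ _, bit_injective ?_⟩, bit_pt hi⟩
    rw [bit_pm h, bit_pt hi, hf]

/-! ### Generated subgroups -/

/-- The subgroup generated by coded permutations. -/
noncomputable def spanPts (gens : List ℕ) : Subgroup (Equiv.Perm GolayPt) :=
  (PermCode.span 24 gens).map toFin.symm.toMonoidHom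

theorem card_spanPts (gens : List ℕ) :
    Nat.card (spanPts gens) = Nat.card (PermCode.span 24 gens) :=
  Subgroup.card_map_of_injective toFin.symm.injective

theorem spanPts_le {gens : List ℕ} {K : Subgroup (Equiv.Perm GolayPt)}
    (h : ∀ s ∈ gens, pm s ∈ K) : spanPts gens ≤ K := by
  rw [spanPts, PermCode.span, MonoidHom.map_closure, Subgroup.closure_le]
  rintro _ ⟨_, ⟨s, hs, rfl⟩, rfl⟩
  exact h s hs

theorem pm_mem_spanPts {gens : List ℕ} {s : ℕ} (hs : s ∈ gens) : pm s ∈ spanPts gens :=
  ⟨PermCode.val 24 s, Subgroup.subset_closure ⟨s, hs, rfl⟩, rfl⟩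

theorem spanPts_le_M24 {gens : List ℕ} (h : gens.all good = true) : spanPts gens ≤ M24 :=
  spanPts_le fun s hs => pm_mem (List.all_eq_true.1 h s hs)

/-- A list containing the identity and closed under left multiplication by the generators, with the
indices of the products given. -/
noncomputable def closedCheck (gens : List ℕ) (elts : List (ℕ × List ℕ)) : Bool :=
  gens.all (PermCode.okb 24) &&
  elts.any (fun e => Nat.beq e.1 (PermCode.one 24)) &&
  elts.all (fun e => PermCode.okb 24 e.1 && Nat.beq e.2.length gens.length &&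
    (List.zipWith (fun s i => Nat.beq (PermCode.mul 24 s e.1) ((elts.getD i (0, [])).1) &&
      Nat.blt i elts.length) gens e.2).all id)

theorem exists_code_of_mem {gens : List ℕ} {elts : List (ℕ × List ℕ)}
    (h : closedCheck gens elts = true) {g : Equiv.Perm GolayPt} (hg : g ∈ spanPts gens) :
    ∃ e ∈ elts, PermCode.Ok 24 e.1 ∧ pm e.1 = g := by
  simp only [closedCheck, Bool.and_eq_true, List.all_eq_true, List.any_eq_true] at h
  obtain ⟨⟨hgok, ⟨e₀, he₀, he₁⟩⟩, hcl⟩ := h
  let S : Set (Equiv.Perm GolayPt) := {g | ∃ e ∈ elts, pm e.1 = g}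
  let T : Submonoid (Equiv.Perm GolayPt) :=
    { carrier := {g | ∀ u ∈ S, g * u ∈ S}
      one_mem' := fun u hu => by rwa [one_mul]
      mul_mem' := fun {a c} ha hc u hu => by rw [mul_assoc]; exact ha _ (hc u hu) }
  let U : Subgroup (Equiv.Perm GolayPt) :=
    { T with
      inv_mem' := fun {x} hx => by
        have e : x⁻¹ = x ^ (orderOf x - 1) := inv_eq_of_mul_eq_one_right (by
          rw [← pow_succ', Nat.sub_add_cancel (orderOf_pos x), pow_orderOf_eq_one])
        show x⁻¹ ∈ T
        rw [e]; exact pow_mem hx _ }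
  have hT : g ∈ U := by
    refine spanPts_le ?_ hg
    rintro s hs _ ⟨e, he, rfl⟩
    obtain ⟨k, hk, rfl⟩ := List.mem_iff_getElem.1 hs
    obtain ⟨⟨heok, hlen⟩, hz⟩ := hcl e he
    have hk' : k < e.2.length := by rw [Nat.eq_of_beq_eq_true hlen]; exact hk
    have := hz _ (List.mem_iff_getElem.2 ⟨k, by simp [hk, hk'], rfl⟩)
    simp only [List.getElem_zipWith, id_eq, Bool.and_eq_true, Nat.blt_eq] at this
    refine ⟨elts[e.2[k]]'this.2, List.getElem_mem _, ?_⟩
    obtain ⟨h1, h2⟩ := this
    have e1 := Nat.eq_of_beq_eq_true h1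
    rw [List.getD_eq_getElem _ _ h2] at e1
    exact (congrArg pm e1).symm.trans (pm_mul (PermCode.ok_of_okb (hgok _ hs)) (PermCode.ok_of_okb heok))
  obtain ⟨e, he, heg⟩ := hT 1 ⟨e₀, he₀, by rw [Nat.eq_of_beq_eq_true he₁, pm_one]⟩
  rw [mul_one] at heg
  exact ⟨e, he, PermCode.ok_of_okb (hcl e he).1.1, heg⟩

/-- An element of prime order is conjugate in `M24` into any checked Sylow subgroup. -/
theorem exists_conj_code {p k : ℕ} [hp : Fact p.Prime] {gens : List ℕ} {elts : List (ℕ × List ℕ)}
    (hgood : gens.all good = true) (hcl : closedCheck gens elts = true)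
    (hcard : Nat.card (PermCode.span 24 gens) = p ^ k) (hk : ¬ p ^ (k + 1) ∣ 244823040)
    {g : Equiv.Perm GolayPt} (hg : g ∈ M24) (hord : orderOf g = p) :
    ∃ u ∈ M24, ∃ e ∈ elts, PermCode.Ok 24 e.1 ∧ u * g * u⁻¹ = pm e.1 := by
  let S : Subgroup M24 := (spanPts gens).subgroupOf M24
  have hS : Nat.card S = p ^ k := by
    rw [Nat.card_congr (Subgroup.subgroupOfEquivOfLe (spanPts_le_M24 hgood)).toEquiv, card_spanPts,
      hcard]
  have hind : ¬ p ∣ S.index := by
    intro hd
    apply hk
    rw [← card_M24, ← S.card_mul_index, hS, pow_succ]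
    exact Nat.mul_dvd_mul_left _ hd
  let P : Sylow p M24 := (IsPGroup.of_card hS).toSylow hind
  have hg' : orderOf (⟨g, hg⟩ : M24) = p := by rw [← Subgroup.orderOf_coe]; exact hord
  obtain ⟨Q, hQ⟩ := (IsPGroup.of_card (n := 1) (G := Subgroup.zpowers (⟨g, hg⟩ : M24))
    (by rw [Nat.card_zpowers, hg', pow_one])).exists_le_sylow
  obtain ⟨c, hc⟩ := MulAction.exists_smul_eq M24 P Q
  have hgQ : (⟨g, hg⟩ : M24) ∈ ((c • P : Sylow p M24) : Subgroup M24) :=
    hc ▸ hQ (Subgroup.mem_zpowers _)
  obtain ⟨u, hu, huv⟩ := hgQ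
  have huv' : c * u * c⁻¹ = (⟨g, hg⟩ : M24) := huv
  have hu' : (u : Equiv.Perm GolayPt) ∈ spanPts gens := hu
  obtain ⟨e, he, heok, heu⟩ := exists_code_of_mem hcl hu'
  refine ⟨(c : Equiv.Perm GolayPt)⁻¹, inv_mem c.2, e, he, heok, ?_⟩
  rw [heu, ← show (c : Equiv.Perm GolayPt) * u * (c : Equiv.Perm GolayPt)⁻¹ = g from congrArg Subtype.val huv']
  group

end CfsgLib.M24Elt
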