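import Cfsg.Agent.Lib.M24Elt.Basic
import Cfsg.Agent.Lib.M24Elt.ClassData

/-!
The two classes of involutions and the two classes of elements of order 3 in M24, told apart by the
number of fixed points.
-/

set_option autoImplicit false

namespace CfsgLib.M24Elt

open Cfsg CfsgLib.Comp CfsgLib.Golay

/-- Every listed element of order `p` is conjugate to one of two representatives. -/
noncomputable def classCheck (p a rA b rB : ℕ) : List (ℕ × List ℕ) → List ℕ → Bool
  | [], _ => true
  | _ :: _, [] => false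
  | e :: es, c :: cs =>
    (!isOne (powc e.1 p) || isOne e.1 ||
      (bif Nat.beq (fixN e.1) a then good c && eqc (PermCode.mul 24 c rA) (PermCode.mul 24 e.1 c)
        else Nat.beq (fixN e.1) b && good c && eqc (PermCode.mul 24 c rB) (PermCode.mul 24 e.1 c))) &&
      classCheck p a rA b rB es cs

theorem classCheck_spec {p a rA b rB : ℕ} (hA : PermCode.Ok 24 rA) (hB : PermCode.Ok 24 rB) :
    ∀ {es : List (ℕ × List ℕ)} {cs : List ℕ}, classCheck p a rA b rB es cs = true →
      ∀ e ∈ es, PermCode.Ok 24 e.1 → pm e.1 ^ p = 1 → pm e.1 ≠ 1 →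
        ∃ r ∈ [(a, rA), (b, rB)], ∃ u ∈ M24, u * pm r.2 * u⁻¹ = pm e.1 ∧ fixCard (pm e.1) = r.1
  | [], _, _, e, he, _, _, _ => absurd he (by simp)
  | _ :: _, [], h, _, _, _, _, _ => by simp [classCheck] at h
  | e₀ :: es, c :: cs, h, e, he, hok, hp, hne => by
    rw [classCheck, Bool.and_eq_true] at h
    rcases List.mem_cons.1 he with rfl | he
    · have h1 : isOne (powc e.1 p) = true := isOne_of_pm (powc_ok hok p) (by rw [pm_powc hok, hp])
      have h2 : isOne e.1 = false := Bool.eq_false_iff.2 fun t => hne (pm_eq_one hok t)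
      have h3 := h.1
      simp only [h1, h2, Bool.not_true, Bool.false_or] at h3
      have key : ∀ r : ℕ, PermCode.Ok 24 r →
          (good c && eqc (PermCode.mul 24 c r) (PermCode.mul 24 e.1 c)) = true →
          ∃ u ∈ M24, u * pm r * u⁻¹ = pm e.1 := by
        intro r hr hc
        rw [Bool.and_eq_true] at hc
        refine ⟨pm c, pm_mem hc.1, ?_⟩
        have e2 := pm_eq_of_eqc (ok_pm_mul (good_ok hc.1) hr) (ok_pm_mul hok (good_ok hc.1)) hc.2
        rw [pm_mul (good_ok hc.1) hr, pm_mul hok (good_ok hc.1)] at e2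
        rw [e2, mul_inv_cancel_right]
      cases hfa : Nat.beq (fixN e.1) a
      · rw [hfa, cond_false, Bool.and_assoc, Bool.and_eq_true] at h3
        obtain ⟨u, hu, hue⟩ := key rB hB h3.2
        exact ⟨(b, rB), by simp, u, hu, hue,
          (fixCard_pm hok).trans (Nat.eq_of_beq_eq_true h3.1)⟩
      · rw [hfa, cond_true] at h3
        obtain ⟨u, hu, hue⟩ := key rA hA h3
        exact ⟨(a, rA), by simp, u, hu, hue, (fixCard_pm hok).trans (Nat.eq_of_beq_eq_true hfa)⟩
    · exact classCheck_spec hA hB h.2 e he hok hp hne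

theorem class_general {p k a rA b rB : ℕ} [Fact p.Prime] {gens : List ℕ} {elts : List (ℕ × List ℕ)}
    {cs : List ℕ} (hgood : gens.all good = true) (hcl : closedCheck gens elts = true)
    (hcard : Nat.card (PermCode.span 24 gens) = p ^ k) (hk : ¬ p ^ (k + 1) ∣ 244823040)
    (hA : PermCode.Ok 24 rA) (hB : PermCode.Ok 24 rB) (hcs : classCheck p a rA b rB elts cs = true)
    {g : Equiv.Perm GolayPt} (hg : g ∈ M24) (hord : orderOf g = p) :
    ∃ r ∈ [(a, rA), (b, rB)], ∃ u ∈ M24, u * pm r.2 * u⁻¹ = g ∧ fixCard g = r.1 := by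
  obtain ⟨v, hv, e, he, hok, hve⟩ := exists_conj_code hgood hcl hcard hk hg hord
  have hp : pm e.1 ^ p = 1 := by
    rw [← hve, conj_pow, ← hord, pow_orderOf_eq_one, mul_one, mul_inv_cancel]
  have hne : pm e.1 ≠ 1 := by
    rw [← hve, Ne, conj_eq_one_iff]
    intro e1
    rw [e1, orderOf_one] at hord
    exact (Fact.out : p.Prime).one_lt.ne hord
  obtain ⟨r, hr, u, hu, hue, hf⟩ := classCheck_spec hA hB hcs e he hok hp hne
  refine ⟨r, hr, v⁻¹ * u, mul_mem (inv_mem hv) hu, ?_, ?_⟩
  · rw [show v⁻¹ * u * pm r.2 * (v⁻¹ * u)⁻¹ = v⁻¹ * (u * pm r.2 * u⁻¹) * v by group, hue, ← hve]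
    group
  · rw [← hf, ← hve, fixCard_conj]

theorem syl_checks :
    (ClassData.syl2Gens.all good && ClassData.syl3Gens.all good &&
      (good ClassData.rep2_8 && good ClassData.rep2_0 && good ClassData.rep3_6 && good ClassData.rep3_0)) = true := by
  decide +kernel

theorem syl2_closed : closedCheck ClassData.syl2Gens ClassData.syl2Elts = true := by decide +kernel

theorem syl3_closed : closedCheck ClassData.syl3Gens ClassData.syl3Elts = true := by decide +kernel

theorem syl2_classes : classCheck 2 8 ClassData.rep2_8 0 ClassData.rep2_0 ClassData.syl2Elts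
    ClassData.syl2Conj = true := by decide +kernel

theorem syl3_classes : classCheck 3 6 ClassData.rep3_6 0 ClassData.rep3_0 ClassData.syl3Elts
    ClassData.syl3Conj = true := by decide +kernel

theorem rep_goods : good ClassData.rep2_8 = true ∧ good ClassData.rep2_0 = true ∧
    good ClassData.rep3_6 = true ∧ good ClassData.rep3_0 = true := by
  have h := syl_checks
  simp only [Bool.and_eq_true] at h
  exact ⟨h.2.1.1.1, h.2.1.1.2, h.2.1.2, h.2.2⟩

theorem gens_goods : ClassData.syl2Gens.all good = true ∧ ClassData.syl3Gens.all good = true := by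
  have h := syl_checks
  simp only [Bool.and_eq_true] at h
  exact h.1

/-- The involutions of M24: 8 or 0 fixed points, one class each. -/
theorem involution_class {g : Equiv.Perm GolayPt} (hg : g ∈ M24) (hord : orderOf g = 2) :
    (fixCard g = 8 ∧ ∃ u ∈ M24, u * pm ClassData.rep2_8 * u⁻¹ = g) ∨
      (fixCard g = 0 ∧ ∃ u ∈ M24, u * pm ClassData.rep2_0 * u⁻¹ = g) := by
  haveI : Fact (Nat.Prime 2) := ⟨Nat.prime_two⟩
  obtain ⟨r, hr, u, hu, he, hf⟩ := class_general (k := 10) gens_goods.1 syl2_closed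
    (by rw [ClassData.syl2_card]; norm_num) (by norm_num) (good_ok rep_goods.1) (good_ok rep_goods.2.1)
    syl2_classes hg hord
  simp only [List.mem_cons, List.not_mem_nil, or_false] at hr
  rcases hr with rfl | rfl
  · exact Or.inl ⟨hf, u, hu, he⟩
  · exact Or.inr ⟨hf, u, hu, he⟩

/-- The elements of order 3 of M24: 6 or 0 fixed points, one class each. -/
theorem three_class {g : Equiv.Perm GolayPt} (hg : g ∈ M24) (hord : orderOf g = 3) :
    (fixCard g = 6 ∧ ∃ u ∈ M24, u * pm ClassData.rep3_6 * u⁻¹ = g) ∨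
      (fixCard g = 0 ∧ ∃ u ∈ M24, u * pm ClassData.rep3_0 * u⁻¹ = g) := by
  haveI : Fact (Nat.Prime 3) := ⟨Nat.prime_three⟩
  obtain ⟨r, hr, u, hu, he, hf⟩ := class_general (k := 3) gens_goods.2 syl3_closed
    (by rw [ClassData.syl3_card]; norm_num) (by norm_num) (good_ok rep_goods.2.2.1)
    (good_ok rep_goods.2.2.2) syl3_classes hg hord
  simp only [List.mem_cons, List.not_mem_nil, or_false] at hr
  rcases hr with rfl | rfl
  · exact Or.inl ⟨hf, u, hu, he⟩
  · exact Or.inr ⟨hf, u, hu, he⟩

end CfsgLib.M24Elt
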