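import Cfsg.Agent.Lib.M24Elt.Centralisers
import Cfsg.Agent.Lib.M24Elt.SylTwoData
import Cfsg.Agent.Lib.TwoFusion.TwoGroupCoatom
import Cfsg.Prelude.Def_Transfer

/-!
The Sylow 2-subgroup of M24 of order 1024: its centre, the quotient by the centre, its normaliser.
-/

set_option autoImplicit false

namespace CfsgLib.M24Elt.SylTwo

open Cfsg CfsgLib.Comp CfsgLib.Golay CfsgLib.M24Elt

/-- The standard Sylow subgroup. -/
noncomputable abbrev P0 : Subgroup (Equiv.Perm GolayPt) := spanPts ClassData.syl2Gens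

theorem card_P0 : Nat.card P0 = 1024 := by rw [card_spanPts, ClassData.syl2_card]

theorem P0_le : P0 ≤ M24 := spanPts_le_M24 gens_goods.1

/-- The test for a code to lie in the standard subgroup. -/
noncomputable def inP (c : ℕ) : Bool :=
  PermCode.okb 24 c && PermCode.sift 24 ClassData.syl2Chain c

theorem inP_ok {c : ℕ} (h : inP c = true) : PermCode.Ok 24 c := by
  rw [inP, Bool.and_eq_true] at h
  exact PermCode.ok_of_okb h.1

theorem inP_mem {c : ℕ} (h : inP c = true) : pm c ∈ P0 := by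
  rw [inP, Bool.and_eq_true] at h
  exact ⟨PermCode.val 24 c, PermCode.mem_span ClassData.syl2_check h.1 h.2, rfl⟩

theorem build_get (n : ℕ) (hn : n ≤ 256) {a b : ℕ} (ha : PermCode.Ok n a) (hb : PermCode.Ok n b)
    (h : PermCode.build n (PermCode.get a) = PermCode.build n (PermCode.get b)) :
    agree n a b = true := by
  refine PermCode.allLt_of fun i hi => ?_
  have e := congrArg (fun c => PermCode.get c i) h
  rw [PermCode.get_build _ _ (fun j hj => by have := ha.1 j hj; omega) i hi,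
    PermCode.get_build _ _ (fun j hj => by have := hb.1 j hj; omega) i hi] at e
  rw [e]
  exact Nat.beq_refl _

theorem pm_eq_of_canon {a b : ℕ} (ha : PermCode.Ok 24 a) (hb : PermCode.Ok 24 b)
    (h : canon a = canon b) : pm a = pm b :=
  pm_eq_of_eqc ha hb (build_get _ (by norm_num) ha hb h)

theorem z_checks : (inP SylTwoData.zCode && !isOne SylTwoData.zCode &&
    isOne (PermCode.mul 24 SylTwoData.zCode SylTwoData.zCode) && Nat.beq (fixN SylTwoData.zCode) 8 &&
    (ClassData.syl2Gens.all fun g =>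
      eqc (PermCode.mul 24 SylTwoData.zCode g) (PermCode.mul 24 g SylTwoData.zCode)) &&
    (ClassData.syl2Elts.all fun e => isOne e.1 || eqc e.1 SylTwoData.zCode ||
      !(ClassData.syl2Gens.all fun g => eqc (PermCode.mul 24 e.1 g) (PermCode.mul 24 g e.1)))) = true := by
  decide +kernel

/-- The central involution. -/
noncomputable def zed : Equiv.Perm GolayPt := pm SylTwoData.zCode

theorem zed_facts : zed ∈ P0 ∧ zed ≠ 1 ∧ zed * zed = 1 ∧ fixCard zed = 8 ∧
    PermCode.Ok 24 SylTwoData.zCode := by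
  have h := z_checks
  simp only [Bool.and_eq_true, Bool.not_eq_true'] at h
  have hok := inP_ok h.1.1.1.1.1
  refine ⟨inP_mem h.1.1.1.1.1, pm_ne_one hok h.1.1.1.1.2, ?_, ?_, hok⟩
  · rw [zed, ← pm_mul hok hok]
    exact pm_eq_one (ok_pm_mul hok hok) h.1.1.1.2
  · rw [zed, fixCard_pm hok, Nat.eq_of_beq_eq_true h.1.1.2]

theorem gens_ok {g : ℕ} (hg : g ∈ ClassData.syl2Gens) : PermCode.Ok 24 g :=
  good_ok (List.all_eq_true.1 gens_goods.1 g hg)

theorem zed_comm {x : Equiv.Perm GolayPt} (hx : x ∈ P0) : zed * x = x * zed := by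
  have h := z_checks
  simp only [Bool.and_eq_true, List.all_eq_true] at h
  have hok := zed_facts.2.2.2.2
  have hle : P0 ≤ Subgroup.centralizer ({zed} : Set (Equiv.Perm GolayPt)) := by
    refine spanPts_le fun g hg => Subgroup.mem_centralizer_iff.2 fun w hw => ?_
    rw [Set.mem_singleton_iff] at hw
    subst hw
    rw [zed, ← pm_mul hok (gens_ok hg), ← pm_mul (gens_ok hg) hok]
    exact pm_eq_of_eqc (ok_pm_mul hok (gens_ok hg)) (ok_pm_mul (gens_ok hg) hok) (h.1.2 g hg)
  exact Subgroup.mem_centralizer_iff.1 (hle hx) zed rfl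

theorem central_cases {x : Equiv.Perm GolayPt} (hx : x ∈ P0)
    (hc : ∀ y ∈ P0, x * y = y * x) : x = 1 ∨ x = zed := by
  obtain ⟨e, he, hok, rfl⟩ := exists_code_of_mem syl2_closed hx
  have h := z_checks
  simp only [Bool.and_eq_true, List.all_eq_true] at h
  have h1 := h.2 e he
  simp only [Bool.or_eq_true] at h1
  rcases h1 with (h1 | h1) | h1
  · exact Or.inl (pm_eq_one hok h1)
  · exact Or.inr (pm_eq_of_eqc hok zed_facts.2.2.2.2 h1)
  · exfalso
    rw [Bool.not_eq_true', ← Bool.not_eq_true, List.all_eq_true] at h1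
    refine h1 fun g hg => eqc_of_pm_eq (ok_pm_mul hok (gens_ok hg)) (ok_pm_mul (gens_ok hg) hok) ?_
    rw [pm_mul hok (gens_ok hg), pm_mul (gens_ok hg) hok]
    exact hc _ (pm_mem_spanPts hg)

theorem mem_center_iff {x : P0} :
    x ∈ Subgroup.center P0 ↔ (x : Equiv.Perm GolayPt) = 1 ∨ (x : Equiv.Perm GolayPt) = zed := by
  rw [Subgroup.mem_center_iff]
  constructor
  · intro h
    exact central_cases x.2 fun y hy => (congrArg Subtype.val (h ⟨y, hy⟩)).symm
  · rintro (h | h) y <;> refine Subtype.ext ?_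
    · show (y : Equiv.Perm GolayPt) * x = x * y
      rw [h, mul_one, one_mul]
    · show (y : Equiv.Perm GolayPt) * x = x * y
      rw [h, zed_comm y.2]

/-- The quotient by the centre. -/
abbrev Q0 : Type := P0 ⧸ Subgroup.center P0

theorem card_Q0 : Nat.card Q0 = 512 := by
  have h : Nat.card (Subgroup.center P0) = 2 := by
    rw [Nat.card_eq_two_iff]
    have hz : (⟨zed, zed_facts.1⟩ : P0) ∈ Subgroup.center P0 := mem_center_iff.2 (Or.inr rfl)
    refine ⟨1, ⟨⟨zed, zed_facts.1⟩, hz⟩, fun e => zed_facts.2.1 ?_, ?_⟩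
    · exact (congrArg Subtype.val (congrArg Subtype.val e)).symm
    · ext a
      simp only [Set.mem_insert_iff, Set.mem_singleton_iff, Set.mem_univ, iff_true]
      rcases mem_center_iff.1 a.2 with e | e
      · exact Or.inl (Subtype.ext (Subtype.ext e))
      · exact Or.inr (Subtype.ext (Subtype.ext e))
  have h1 := Subgroup.card_eq_card_quotient_mul_card_subgroup (Subgroup.center P0)
  rw [card_P0, h] at h1
  show Nat.card (P0 ⧸ Subgroup.center P0) = 512
  omega

open Classical in
/-- The class of a code. -/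
noncomputable def q (c : ℕ) : Q0 :=
  if h : pm c ∈ P0 then QuotientGroup.mk ⟨pm c, h⟩ else 1

theorem q_def {c : ℕ} (h : pm c ∈ P0) : q c = QuotientGroup.mk ⟨pm c, h⟩ := by
  rw [q, dif_pos h]

theorem q_mul {a b : ℕ} (ha : inP a = true) (hb : inP b = true) :
    q (PermCode.mul 24 a b) = q a * q b := by
  have h : pm (PermCode.mul 24 a b) ∈ P0 := by
    rw [pm_mul (inP_ok ha) (inP_ok hb)]; exact mul_mem (inP_mem ha) (inP_mem hb)
  rw [q_def h, q_def (inP_mem ha), q_def (inP_mem hb), ← QuotientGroup.mk_mul]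
  exact congrArg QuotientGroup.mk (Subtype.ext (pm_mul (inP_ok ha) (inP_ok hb)))

/-- A name for the class of a code. -/
noncomputable def key (c : ℕ) : ℕ := min (canon c) (canon (PermCode.mul 24 SylTwoData.zCode c))

theorem key_iff {a b : ℕ} (ha : PermCode.Ok 24 a) (hb : PermCode.Ok 24 b) :
    key a = key b ↔ pm a = pm b ∨ pm a = zed * pm b := by
  have hz := zed_facts.2.2.2.2
  have hza := ok_pm_mul hz ha
  have hzb := ok_pm_mul hz hb
  constructor
  · intro h
    have hinv : ∀ {x y : Equiv.Perm GolayPt}, zed * x = y → x = zed * y := fun e => by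
      rw [← e, ← mul_assoc, zed_facts.2.2.1, one_mul]
    simp only [key] at h
    rcases min_choice (canon a) (canon (PermCode.mul 24 SylTwoData.zCode a)) with e | e <;>
      rcases min_choice (canon b) (canon (PermCode.mul 24 SylTwoData.zCode b)) with e' | e' <;>
      rw [e, e'] at h
    · exact Or.inl (pm_eq_of_canon ha hb h)
    · refine Or.inr ?_
      rw [pm_eq_of_canon ha hzb h, pm_mul hz hb]; rfl
    · have h' := pm_eq_of_canon hza hb h
      rw [pm_mul hz ha] at h'
      exact Or.inr (hinv h')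
    · have h' := pm_eq_of_canon hza hzb h
      rw [pm_mul hz ha, pm_mul hz hb] at h'
      exact Or.inl (mul_left_cancel h')
  · rintro (h | h)
    · rw [key, key, canon_eq ha hb h, canon_eq hza hzb (by rw [pm_mul hz ha, pm_mul hz hb, h])]
    · have e1 : canon a = canon (PermCode.mul 24 SylTwoData.zCode b) :=
        canon_eq ha hzb (by rw [pm_mul hz hb, h]; rfl)
      have e2 : canon (PermCode.mul 24 SylTwoData.zCode a) = canon b :=
        canon_eq hza hb (by
          rw [pm_mul hz ha, h]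
          show zed * (zed * pm b) = pm b
          rw [← mul_assoc, zed_facts.2.2.1, one_mul])
      rw [key, key, e1, e2, min_comm]

theorem q_eq_iff {a b : ℕ} (ha : pm a ∈ P0) (hb : pm b ∈ P0) (oa : PermCode.Ok 24 a)
    (ob : PermCode.Ok 24 b) : q a = q b ↔ key a = key b := by
  rw [q_def ha, q_def hb, QuotientGroup.eq, mem_center_iff, key_iff oa ob]
  simp only [Subgroup.coe_mul, Subgroup.coe_inv]
  have hzz : zed⁻¹ = zed := inv_eq_of_mul_eq_one_right zed_facts.2.2.1
  constructor
  · rintro (h | h)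
    · exact Or.inl (inv_mul_eq_one.1 h)
    · refine Or.inr ?_
      rw [inv_mul_eq_iff_eq_mul, ← zed_comm ha] at h
      rw [h, ← mul_assoc, zed_facts.2.2.1, one_mul]
  · rintro (h | h)
    · exact Or.inl (by rw [h, inv_mul_cancel])
    · refine Or.inr ?_
      rw [h, mul_inv_rev, hzz, mul_assoc, zed_comm hb, ← mul_assoc, inv_mul_cancel, one_mul]

/-- Commuting modulo the centre. -/
noncomputable def cm (a b : ℕ) : Bool := Nat.beq (key (PermCode.mul 24 a b)) (key (PermCode.mul 24 b a))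

theorem cm_iff {a b : ℕ} (ha : inP a = true) (hb : inP b = true) :
    cm a b = true ↔ q a * q b = q b * q a := by
  have hab := ok_pm_mul (inP_ok ha) (inP_ok hb)
  have hba := ok_pm_mul (inP_ok hb) (inP_ok ha)
  rw [← q_mul ha hb, ← q_mul hb ha, q_eq_iff
    (by rw [pm_mul (inP_ok ha) (inP_ok hb)]; exact mul_mem (inP_mem ha) (inP_mem hb))
    (by rw [pm_mul (inP_ok hb) (inP_ok ha)]; exact mul_mem (inP_mem hb) (inP_mem ha)) hab hba,
    cm, Nat.beq_eq]

theorem reps_check : ((SylTwoData.reps.all fun r => inP r && Nat.beq (key r) r) &&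
    incr SylTwoData.reps && Nat.beq SylTwoData.reps.length 512) = true := by
  decide +kernel

theorem reps_inP {r : ℕ} (hr : r ∈ SylTwoData.reps) : inP r = true ∧ key r = r := by
  have h := reps_check
  simp only [Bool.and_eq_true, List.all_eq_true, Nat.beq_eq] at h
  exact h.1.1 r hr

theorem exists_rep (x : Q0) : ∃ r ∈ SylTwoData.reps, q r = x := by
  classical
  have h := reps_check
  simp only [Bool.and_eq_true, Nat.beq_eq] at h
  haveI : Fintype Q0 := Fintype.ofFinite _
  have hnd : (SylTwoData.reps.map q).Nodup := by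
    refine List.Nodup.map_on (fun a ha b hb e => ?_) ((incr_pairwise h.1.2).imp Nat.ne_of_lt)
    obtain ⟨ha1, ha2⟩ := reps_inP ha
    obtain ⟨hb1, hb2⟩ := reps_inP hb
    rw [← ha2, ← hb2]
    exact (q_eq_iff (inP_mem ha1) (inP_mem hb1) (inP_ok ha1) (inP_ok hb1)).1 e
  have hcard : (SylTwoData.reps.map q).toFinset.card = Fintype.card Q0 := by
    rw [List.toFinset_card_of_nodup hnd, List.length_map, h.2, ← Nat.card_eq_fintype_card, card_Q0]
  have hx : x ∈ (SylTwoData.reps.map q).toFinset := by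
    rw [Finset.eq_univ_of_card _ hcard]; exact Finset.mem_univ x
  simpa using hx

theorem isPGroup_Q0 : IsPGroup 2 Q0 := IsPGroup.of_card (n := 9) (by rw [card_Q0]; norm_num)

/-! ### Maximal subgroups -/

theorem mem_zip_map {α β : Type*} (f : α → β) : ∀ {l : List α} {p : α × β},
    p ∈ l.zip (l.map f) → p.1 ∈ l ∧ p.2 = f p.1
  | [], p, h => by simp at h
  | a :: l, p, h => by
    rw [List.map_cons, List.zip_cons_cons, List.mem_cons] at h
    rcases h with rfl | h
    · exact ⟨List.mem_cons_self, rfl⟩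
    · exact ⟨List.mem_cons_of_mem _ (mem_zip_map f h).1, (mem_zip_map f h).2⟩

theorem mem_bif {b : Bool} {x y u v l : ℕ} (h : l ∈ bif b then [x, y] else [u, v]) :
    (b = true ∧ (l = x ∨ l = y)) ∨ (b = false ∧ (l = u ∨ l = v)) := by
  cases b
  · exact Or.inr ⟨rfl, by simpa using h⟩
  · exact Or.inl ⟨rfl, by simpa using h⟩

/-- The lists of truth values of a given length. -/
def boolLists : ℕ → List (List Bool)
  | 0 => [[]]
  | n + 1 => (boolLists n).flatMap fun l => [false :: l, true :: l]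

theorem mem_boolLists : ∀ (l : List Bool), l ∈ boolLists l.length
  | [] => by simp [boolLists]
  | b :: l => by
    simp only [boolLists, List.length_cons, List.mem_flatMap]
    exact ⟨l, mem_boolLists l, by cases b <;> simp⟩

/-- Elements of the subgroup of index two cut out by a pattern on the generators. -/
noncomputable def evenList (bs : List Bool) : List ℕ :=
  match (ClassData.syl2Gens.zip bs).find? fun p => p.2 with
  | none => []
  | some (t, _) => (ClassData.syl2Gens.zip bs).flatMap fun p =>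
      bif p.2 then [PermCode.mul 24 p.1 t, PermCode.mul 24 t p.1]
      else [p.1, PermCode.mul 24 (PermCode.mul 24 t p.1) t]

theorem even_check : (boolLists 4).all (fun bs => !(bs.any id) ||
    ((evenList bs).all inP && Nat.ble (SylTwoData.reps.filter fun x => (evenList bs).all (cm x)).length 8)) =
      true ∧ ClassData.syl2Gens.all inP = true ∧ ClassData.syl2Gens.length = 4 := by
  decide +kernel

theorem mk_mem_of_gens {M : Subgroup Q0} (h : ∀ g ∈ ClassData.syl2Gens, q g ∈ M) : M = ⊤ := by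
  rw [Subgroup.eq_top_iff']
  intro x
  obtain ⟨⟨y, hy⟩, rfl⟩ := QuotientGroup.mk_surjective x
  have hle : P0 ≤ (M.comap (QuotientGroup.mk' (Subgroup.center P0))).map P0.subtype :=
    spanPts_le fun g hg => ⟨⟨pm g, pm_mem_spanPts hg⟩, by
      show QuotientGroup.mk _ ∈ M
      rw [← q_def]; exact h g hg, rfl⟩
  obtain ⟨w, hw, hwy⟩ := hle hy
  have : w = ⟨y, hy⟩ := Subtype.ext hwy
  exact this ▸ hw

theorem card_center_coatom {M : Subgroup Q0} (hM : IsCoatom M) :
    Nat.card (Subgroup.center M) ≤ 8 := by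
  classical
  obtain ⟨hchk, hgens, hlen⟩ := even_check
  have hidx := TwoFusion.index_eq_two_of_isCoatom isPGroup_Q0 hM
  set bs := ClassData.syl2Gens.map fun g => decide (q g ∉ M) with hbs
  have hbl : bs.length = 4 := by rw [hbs, List.length_map, hlen]
  have h1 := List.all_eq_true.1 hchk bs (hbl ▸ mem_boolLists bs)
  have hany : bs.any id = true := by
    by_contra hcon
    refine hM.1 (mk_mem_of_gens fun g hg => ?_)
    rw [List.any_eq_true] at hcon
    by_contra hg'
    exact hcon ⟨true, by rw [hbs, List.mem_map]; exact ⟨g, hg, by simp [hg']⟩, rfl⟩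
  rw [hany, Bool.not_true, Bool.false_or, Bool.and_eq_true, List.all_eq_true, Nat.ble_eq] at h1
  obtain ⟨hinP, hle⟩ := h1
  have hmem : ∀ l ∈ evenList bs, q l ∈ M := by
    intro l hl
    simp only [evenList] at hl
    split at hl
    · simp at hl
    next t b ht =>
    have hz : ∀ p ∈ ClassData.syl2Gens.zip bs, (q p.1 ∈ M ↔ p.2 = false) ∧ inP p.1 = true := by
      intro p hp
      rw [hbs] at hp
      obtain ⟨hg, he⟩ := mem_zip_map _ hp
      exact ⟨by rw [he]; simp, List.all_eq_true.1 hgens _ hg⟩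
    have htp := List.find?_some ht
    simp only at htp
    obtain ⟨htM, htin⟩ := hz _ (List.mem_of_find?_eq_some ht)
    simp only [htp, Bool.true_eq_false, iff_false] at htM
    rw [List.mem_flatMap] at hl
    obtain ⟨p, hp, hl⟩ := hl
    obtain ⟨hpM, hpin⟩ := hz p hp
    have htp' : pm (PermCode.mul 24 t p.1) ∈ P0 := by
      rw [pm_mul (inP_ok htin) (inP_ok hpin)]; exact mul_mem (inP_mem htin) (inP_mem hpin)
    rcases mem_bif hl with ⟨hb, hl⟩ | ⟨hb, hl⟩
    rotate_left
    · have hin : q p.1 ∈ M := hpM.2 hb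
      rcases hl with e1 | e1 <;> rw [e1]
      · exact hin
      · have e : q (PermCode.mul 24 (PermCode.mul 24 t p.1) t) = q t * q p.1 * q t := by
          rw [← q_mul htin hpin]
          have h2 : pm (PermCode.mul 24 (PermCode.mul 24 t p.1) t) ∈ P0 := by
            rw [pm_mul (ok_pm_mul (inP_ok htin) (inP_ok hpin)) (inP_ok htin)]
            exact mul_mem htp' (inP_mem htin)
          rw [q_def h2, q_def htp', q_def (inP_mem htin), ← QuotientGroup.mk_mul]
          exact congrArg QuotientGroup.mk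
            (Subtype.ext (pm_mul (ok_pm_mul (inP_ok htin) (inP_ok hpin)) (inP_ok htin)))
        rw [e, Subgroup.mul_mem_iff_of_index_two hidx, Subgroup.mul_mem_iff_of_index_two hidx]
        tauto
    · have hout : q p.1 ∉ M := fun h' => by rw [hpM] at h'; rw [hb] at h'; exact Bool.noConfusion h'
      rcases hl with e1 | e1 <;> rw [e1]
      · rw [q_mul hpin htin, Subgroup.mul_mem_iff_of_index_two hidx]; tauto
      · rw [q_mul htin hpin, Subgroup.mul_mem_iff_of_index_two hidx]; tauto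
  have hsub : ((Subgroup.center M).map M.subtype : Set Q0) ⊆
      ↑(((SylTwoData.reps.filter fun x => (evenList bs).all (cm x)).map q).toFinset) := by
    rintro _ ⟨x, hx, rfl⟩
    obtain ⟨r, hr, hrx⟩ := exists_rep (M.subtype x)
    simp only [Finset.mem_coe, List.mem_toFinset, List.mem_map, List.mem_filter, List.all_eq_true]
    refine ⟨r, ⟨hr, fun l hl => (cm_iff (reps_inP hr).1 (hinP l hl)).2 ?_⟩, hrx⟩
    rw [hrx]
    exact (congrArg Subtype.val (Subgroup.mem_center_iff.1 hx ⟨q l, hmem l hl⟩)).symm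
  have h2 := Set.ncard_le_ncard hsub (Finset.finite_toSet _)
  rw [Set.ncard_coe_finset, ← Nat.card_coe_set_eq] at h2
  have h4 : Nat.card (Subgroup.center M) = Nat.card ((Subgroup.center M).map M.subtype) :=
    (Subgroup.card_map_of_injective M.subtype_injective).symm
  rw [h4]
  refine h2.trans ((List.toFinset_card_le _).trans ?_)
  rw [List.length_map]
  exact hle

/-! ### Abelian subgroups of order 64 -/

theorem elemAb_check :
    ((SylTwoData.elemAb.all fun a => inP a && Nat.beq (key a) a &&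
      Nat.beq (key (PermCode.mul 24 a a)) (key (PermCode.one 24))) &&
    (SylTwoData.elemAb.all fun a => SylTwoData.elemAb.all fun b =>
      cm a b && SylTwoData.elemAb.any (Nat.beq (key (PermCode.mul 24 a b)))) &&
    incr SylTwoData.elemAb && Nat.beq SylTwoData.elemAb.length 64 &&
    SylTwoData.elemAb.any (Nat.beq (key (PermCode.one 24)))) = true := by
  decide +kernel

theorem class_check :
    ((SylTwoData.classes.all fun c => inP c.1 && (c.2.1.all fun e => inP e.1 && inP e.2 &&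
        Nat.beq (key e.1) e.1 &&
        Nat.beq (key (PermCode.mul 24 e.1 e.2)) (key (PermCode.mul 24 e.2 c.1))) &&
      incr (c.2.1.map Prod.fst) &&
      (Nat.ble 16 c.2.1.length || (Nat.ble 8 c.2.1.length && Nat.beq c.2.2.length 2 &&
        c.2.2.all (fun x => inP x && cm c.1 x) && !cm (c.2.2.getD 0 0) (c.2.2.getD 1 0)))) &&
    Nat.ble SylTwoData.excepted.length 31 &&
    (SylTwoData.reps.all fun r => SylTwoData.elemAb.any (Nat.beq r) ||
      SylTwoData.excepted.any (Nat.beq r) ||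
      SylTwoData.classes.any fun c => c.2.1.any fun e => Nat.beq r e.1)) = true := by
  decide +kernel

theorem one_mem_P : pm (PermCode.one 24) ∈ P0 := by rw [pm_one]; exact one_mem _

theorem q_one : q (PermCode.one 24) = 1 := by
  rw [q_def one_mem_P, ← QuotientGroup.mk_one]
  exact congrArg QuotientGroup.mk (Subtype.ext pm_one)

theorem exists_elementary : ∃ A : Subgroup Q0, Cfsg.IsElementaryAbelian 2 A ∧ Nat.card A = 64 ∧
    ∀ x : Q0, x ∈ A ↔ ∃ a ∈ SylTwoData.elemAb, q a = x := by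
  classical
  have h := elemAb_check
  simp only [Bool.and_eq_true, List.all_eq_true, List.any_eq_true, Nat.beq_eq] at h
  obtain ⟨⟨⟨⟨h1, h2⟩, h3⟩, h4⟩, a1, ha1, hone⟩ := h
  have hin : ∀ a ∈ SylTwoData.elemAb, inP a = true := fun a ha => (h1 a ha).1.1
  have hmul : ∀ a ∈ SylTwoData.elemAb, ∀ b ∈ SylTwoData.elemAb,
      pm (PermCode.mul 24 a b) ∈ P0 := fun a ha b hb => by
    rw [pm_mul (inP_ok (hin a ha)) (inP_ok (hin b hb))]
    exact mul_mem (inP_mem (hin a ha)) (inP_mem (hin b hb))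
  have hsq : ∀ a ∈ SylTwoData.elemAb, q a * q a = 1 := fun a ha => by
    rw [← q_mul (hin a ha) (hin a ha), ← q_one]
    exact (q_eq_iff (hmul a ha a ha) one_mem_P (ok_pm_mul (inP_ok (hin a ha)) (inP_ok (hin a ha)))
      ok_code_one).2 (h1 a ha).2
  let A : Subgroup Q0 :=
    { carrier := {x | ∃ a ∈ SylTwoData.elemAb, q a = x}
      one_mem' := ⟨a1, ha1, by
        rw [← q_one]
        exact (q_eq_iff (inP_mem (hin a1 ha1)) one_mem_P (inP_ok (hin a1 ha1)) ok_code_one).2
          (((h1 a1 ha1).1.2).trans hone.symm)⟩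
      mul_mem' := by
        rintro _ _ ⟨a, ha, rfl⟩ ⟨b, hb, rfl⟩
        obtain ⟨-, c, hc, hce⟩ := h2 a ha b hb
        refine ⟨c, hc, ?_⟩
        rw [← q_mul (hin a ha) (hin b hb)]
        exact (q_eq_iff (inP_mem (hin c hc)) (hmul a ha b hb) (inP_ok (hin c hc))
          (ok_pm_mul (inP_ok (hin a ha)) (inP_ok (hin b hb)))).2 (((h1 c hc).1.2).trans hce.symm)
      inv_mem' := by
        rintro _ ⟨a, ha, rfl⟩
        exact ⟨a, ha, (inv_eq_of_mul_eq_one_right (hsq a ha)).symm⟩ }
  refine ⟨A, ⟨⟨⟨?_⟩⟩, ?_⟩, ?_, fun x => Iff.rfl⟩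
  · rintro ⟨_, a, ha, rfl⟩ ⟨_, b, hb, rfl⟩
    exact Subtype.ext ((cm_iff (hin a ha) (hin b hb)).1 (h2 a ha b hb).1)
  · rintro _ ⟨a, ha, rfl⟩
    rw [pow_two, hsq a ha]
  · have e : (A : Set Q0) = ↑((SylTwoData.elemAb.map q).toFinset) := by
      ext x; simp [A]
    rw [← SetLike.coe_sort_coe, Nat.card_coe_set_eq, e, Set.ncard_coe_finset,
      List.toFinset_card_of_nodup, List.length_map, h4]
    refine List.Nodup.map_on (fun a ha b hb e => ?_) ((incr_pairwise h3).imp Nat.ne_of_lt)
    rw [← (h1 a ha).1.2, ← (h1 b hb).1.2]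
    exact (q_eq_iff (inP_mem (hin a ha)) (inP_mem (hin b hb)) (inP_ok (hin a ha)) (inP_ok (hin b hb))).1 e

theorem not_mem_of_class {c : ℕ × List (ℕ × ℕ) × List ℕ} (hc : c ∈ SylTwoData.classes)
    {A : Subgroup Q0} (hA : IsMulCommutative A) (hcard : Nat.card A = 64) : q c.1 ∉ A := by
  intro hmem
  have h := class_check
  simp only [Bool.and_eq_true, List.all_eq_true, Bool.or_eq_true, Nat.ble_eq, Nat.beq_eq] at h
  obtain ⟨⟨⟨hcin, hent⟩, hincr⟩, hsize⟩ := h.1.1 c hc
  set C := Subgroup.centralizer ({q c.1} : Set Q0) with hC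
  have hAC : A ≤ C := fun x hx => Subgroup.mem_centralizer_iff.2 fun y hy => by
    rw [Set.mem_singleton_iff] at hy
    subst hy
    exact congrArg Subtype.val (hA.is_comm.comm (⟨q c.1, hmem⟩ : A) ⟨x, hx⟩)
  have hnd : (c.2.1.map Prod.fst).Nodup := (incr_pairwise hincr).imp Nat.ne_of_lt
  have hup : (c.2.1.map fun e => q e.2).length * Nat.card C ≤ Nat.card (⊤ : Subgroup Q0) := by
    refine length_mul_card_le (C := C) (H := ⊤) le_top (fun _ _ => trivial) fun i j hi hj hij => ?_
    rw [List.length_map] at hi hj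
    rw [List.getElem_map, List.getElem_map] at hij
    obtain ⟨⟨⟨hi1, hi2⟩, hi3⟩, hi4⟩ := hent _ (List.getElem_mem hi)
    obtain ⟨⟨⟨hj1, hj2⟩, hj3⟩, hj4⟩ := hent _ (List.getElem_mem hj)
    have conjeq : ∀ {k w : ℕ}, inP k = true → inP w = true →
        key (PermCode.mul 24 k w) = key (PermCode.mul 24 w c.1) → q k = q w * q c.1 * (q w)⁻¹ := by
      intro k w hk hw he
      rw [eq_mul_inv_iff_mul_eq, ← q_mul hk hw, ← q_mul hw hcin]
      exact (q_eq_iff (by rw [pm_mul (inP_ok hk) (inP_ok hw)]; exact mul_mem (inP_mem hk) (inP_mem hw))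
        (by rw [pm_mul (inP_ok hw) (inP_ok hcin)]; exact mul_mem (inP_mem hw) (inP_mem hcin))
        (ok_pm_mul (inP_ok hk) (inP_ok hw)) (ok_pm_mul (inP_ok hw) (inP_ok hcin))).2 he
    have hcom := Subgroup.mem_centralizer_iff.1 hij (q c.1) rfl
    have e : q (c.2.1[i]).1 = q (c.2.1[j]).1 := by
      rw [conjeq hi1 hi2 hi4, conjeq hj1 hj2 hj4]
      generalize q (c.2.1[i]).2 = a at hcom ⊢
      generalize q (c.2.1[j]).2 = b at hcom ⊢
      calc a * q c.1 * a⁻¹ = a * (q c.1 * (a⁻¹ * b)) * b⁻¹ := by group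
        _ = a * (a⁻¹ * b * q c.1) * b⁻¹ := by rw [hcom]
        _ = b * q c.1 * b⁻¹ := by group
    have hk := (q_eq_iff (inP_mem hi1) (inP_mem hj1) (inP_ok hi1) (inP_ok hj1)).1 e
    rw [hi3, hj3] at hk
    exact hnd.getElem_inj_iff.1 (by rw [List.getElem_map, List.getElem_map]; exact hk :
      (c.2.1.map Prod.fst)[i]'(by simpa using hi) = (c.2.1.map Prod.fst)[j]'(by simpa using hj))
  rw [List.length_map, Subgroup.card_top, card_Q0] at hup
  have h64 : 64 ≤ Nat.card C := hcard ▸ Subgroup.card_le_of_le hAC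
  rcases hsize with hs | ⟨⟨⟨hs, hlen⟩, hpair⟩, hno⟩
  · have := Nat.mul_le_mul hs h64
    omega
  · have hC64 : Nat.card C ≤ 64 := by
      have := Nat.mul_le_mul hs (le_refl (Nat.card C))
      omega
    have heq : A = C := Subgroup.eq_of_le_of_card_ge hAC (by omega)
    have hget : ∀ k, k < 2 → inP (c.2.2.getD k 0) = true ∧ q (c.2.2.getD k 0) ∈ A := by
      intro k hk
      rw [List.getD_eq_getElem _ _ (hlen ▸ hk)]
      obtain ⟨hx, hxc⟩ := hpair _ (List.getElem_mem (hlen ▸ hk))
      refine ⟨hx, heq ▸ Subgroup.mem_centralizer_iff.2 fun y hy => ?_⟩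
      rw [Set.mem_singleton_iff] at hy
      subst hy
      exact (cm_iff hcin hx).1 hxc
    have hcomm := congrArg Subtype.val (hA.is_comm.comm (⟨_, (hget 0 (by norm_num)).2⟩ : A)
      ⟨_, (hget 1 (by norm_num)).2⟩)
    have := (cm_iff (hget 0 (by norm_num)).1 (hget 1 (by norm_num)).1).2 hcomm
    rw [this] at hno
    exact absurd hno (by decide)

theorem eq_of_abelian {A₀ A : Subgroup Q0} (h₀ : ∀ x : Q0, x ∈ A₀ ↔ ∃ a ∈ SylTwoData.elemAb, q a = x)
    (h₀card : Nat.card A₀ = 64) (hA : IsMulCommutative A) (hcard : Nat.card A = 64) : A = A₀ := by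
  classical
  have h := class_check
  simp only [Bool.and_eq_true, List.all_eq_true, Bool.or_eq_true, List.any_eq_true, Nat.ble_eq,
    Nat.beq_eq] at h
  have hsub : (A : Set Q0) ⊆
      ((A ⊓ A₀ : Subgroup Q0) : Set Q0) ∪ ↑((SylTwoData.excepted.map q).toFinset) := by
    intro x hx
    obtain ⟨r, hr, rfl⟩ := exists_rep x
    rcases h.2 r hr with (⟨a, ha, rfl⟩ | ⟨a, ha, rfl⟩) | ⟨c, hc, e, he, rfl⟩
    · exact Or.inl ⟨hx, (h₀ _).2 ⟨_, ha, rfl⟩⟩
    · exact Or.inr (by simp only [Finset.mem_coe, List.mem_toFinset, List.mem_map]; exact ⟨_, ha, rfl⟩)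
    · exfalso
      obtain ⟨⟨⟨hcin, hent⟩, -⟩, -⟩ := h.1.1 c hc
      obtain ⟨⟨⟨he1, he2⟩, -⟩, he4⟩ := hent e he
      let B : Subgroup Q0 := A.map (MulAut.conj (q e.2)⁻¹).toMonoidHom
      have hB : IsMulCommutative B := ⟨⟨by
        rintro ⟨_, u, hu, rfl⟩ ⟨_, v, hv, rfl⟩
        refine Subtype.ext ?_
        show MulAut.conj (q e.2)⁻¹ u * MulAut.conj (q e.2)⁻¹ v =
          MulAut.conj (q e.2)⁻¹ v * MulAut.conj (q e.2)⁻¹ u
        rw [← map_mul, ← map_mul]
        exact congrArg _ (congrArg Subtype.val (hA.is_comm.comm (⟨u, hu⟩ : A) ⟨v, hv⟩))⟩⟩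
      refine not_mem_of_class hc hB
        ((Subgroup.card_map_of_injective (MulAut.conj (q e.2)⁻¹).injective).trans hcard) ?_
      refine ⟨q e.1, hx, ?_⟩
      have h' : q e.1 * q e.2 = q e.2 * q c.1 := by
        rw [← q_mul he1 he2, ← q_mul he2 hcin]
        exact (q_eq_iff (by rw [pm_mul (inP_ok he1) (inP_ok he2)]; exact mul_mem (inP_mem he1) (inP_mem he2))
          (by rw [pm_mul (inP_ok he2) (inP_ok hcin)]; exact mul_mem (inP_mem he2) (inP_mem hcin))
          (ok_pm_mul (inP_ok he1) (inP_ok he2)) (ok_pm_mul (inP_ok he2) (inP_ok hcin))).2 he4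
      show (q e.2)⁻¹ * q e.1 * (q e.2)⁻¹⁻¹ = q c.1
      rw [inv_inv, mul_assoc, h', inv_mul_cancel_left]
  have h1 := (Set.ncard_le_ncard hsub).trans (Set.ncard_union_le _ _)
  rw [Set.ncard_coe_finset, ← Nat.card_coe_set_eq, ← Nat.card_coe_set_eq, SetLike.coe_sort_coe,
    SetLike.coe_sort_coe, hcard] at h1
  have h2 : (SylTwoData.excepted.map q).toFinset.card ≤ 31 := by
    refine (List.toFinset_card_le _).trans ?_
    rw [List.length_map]
    exact h.1.2
  have hbig : 33 ≤ Nat.card ↥(A ⊓ A₀) := by omega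
  have hdvd : Nat.card ↥(A ⊓ A₀) ∣ 64 := hcard ▸ Subgroup.card_dvd_of_le inf_le_left
  have h64 : Nat.card ↥(A ⊓ A₀) = 64 := by
    obtain ⟨k, hk⟩ := hdvd
    rcases k with _ | _ | k
    · omega
    · omega
    · rw [show k + 1 + 1 = k + 2 from rfl, Nat.mul_add] at hk
      omega
  have e1 : A ⊓ A₀ = A := Subgroup.eq_of_le_of_card_ge inf_le_left (by omega)
  exact Subgroup.eq_of_le_of_card_ge (e1 ▸ inf_le_right) (by omega)

/-! ### The normaliser -/

theorem wit_check :
    (Nat.beq SylTwoData.wits.length 21 && Nat.beq SylTwoData.witInvs.length 21 &&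
    PermCode.allLt 21 (fun i =>
      good (SylTwoData.wits.getD i 0) && PermCode.okb 24 (SylTwoData.witInvs.getD i 0) &&
      isOne (PermCode.mul 24 (SylTwoData.witInvs.getD i 0) (SylTwoData.wits.getD i 0)) &&
      eqc (PermCode.mul 24 (SylTwoData.wits.getD i 0) SylTwoData.zCode)
        (PermCode.mul 24 SylTwoData.zCode (SylTwoData.wits.getD i 0))) &&
    (ClassData.syl2Elts.all fun e => Nat.beq (canon e.1) e.1) &&
    PermCode.allLt 21 (fun i => PermCode.allLt 21 fun j => Nat.beq i j ||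
      ClassData.syl2Gens.any fun s =>
        let d := PermCode.mul 24 (SylTwoData.witInvs.getD i 0) (SylTwoData.wits.getD j 0)
        let d' := PermCode.mul 24 (SylTwoData.witInvs.getD j 0) (SylTwoData.wits.getD i 0)
        let x := canon (PermCode.mul 24 (PermCode.mul 24 d s) d')
        ClassData.syl2Elts.all fun e => !Nat.beq x e.1)) = true := by
  decide +kernel

theorem card_cz_zed : Nat.card (cz zed) = 21504 := by
  obtain ⟨hzP, hz1, hz2, hz8, -⟩ := zed_facts
  haveI : Fact (Nat.Prime 2) := ⟨Nat.prime_two⟩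
  have hord : orderOf zed = 2 := orderOf_eq_prime (by rw [pow_two, hz2]) hz1
  obtain ⟨u, hu, he⟩ := exists_conj_2_8 (P0_le hzP) hord hz8
  rw [← he, card_cz_conj hu, card_cz_rep8]

theorem eq_of_normalizes {x : Equiv.Perm GolayPt} (hx : x ∈ M24)
    (hnorm : x ∈ Subgroup.normalizer (P0 : Set (Equiv.Perm GolayPt))) : x ∈ cz zed := by
  refine mem_cz.2 ⟨hx, ?_⟩
  have hy : x * zed * x⁻¹ ∈ P0 := (Subgroup.mem_normalizer_iff.1 hnorm zed).1 zed_facts.1
  have hc : ∀ y ∈ P0, x * zed * x⁻¹ * y = y * (x * zed * x⁻¹) := by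
    intro y hy'
    have hy2 : x⁻¹ * y * x ∈ P0 := (Subgroup.mem_normalizer_iff.1 hnorm _).2 (by
      rw [show x * (x⁻¹ * y * x) * x⁻¹ = y by group]; exact hy')
    calc x * zed * x⁻¹ * y = x * (zed * (x⁻¹ * y * x)) * x⁻¹ := by group
      _ = x * (x⁻¹ * y * x * zed) * x⁻¹ := by rw [zed_comm hy2]
      _ = y * (x * zed * x⁻¹) := by group
  rcases central_cases hy hc with e | e
  · rw [conj_eq_one_iff] at e
    exact absurd e zed_facts.2.1
  · exact mul_inv_eq_iff_eq_mul.1 e

theorem conj_code {vi wj vj wi s : ℕ} (hvi : PermCode.Ok 24 vi) (hwj : PermCode.Ok 24 wj)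
    (hvj : PermCode.Ok 24 vj) (hwi : PermCode.Ok 24 wi) (hs : PermCode.Ok 24 s)
    (ei : pm vi = (pm wi)⁻¹) (ej : pm vj = (pm wj)⁻¹) :
    pm (PermCode.mul 24 (PermCode.mul 24 (PermCode.mul 24 vi wj) s) (PermCode.mul 24 vj wi)) =
      (pm wi)⁻¹ * pm wj * pm s * ((pm wi)⁻¹ * pm wj)⁻¹ := by
  rw [pm_mul (ok_pm_mul (ok_pm_mul hvi hwj) hs) (ok_pm_mul hvj hwi), pm_mul (ok_pm_mul hvi hwj) hs,
    pm_mul hvi hwj, pm_mul hvj hwi, ei, ej, mul_inv_rev, inv_inv]

theorem card_normalizer :
    Nat.card ↥(M24 ⊓ Subgroup.normalizer (P0 : Set (Equiv.Perm GolayPt))) = 1024 := by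
  have h := wit_check
  simp only [Bool.and_eq_true, Nat.beq_eq] at h
  obtain ⟨⟨⟨⟨hlen, hlen'⟩, hwit⟩, hcanon⟩, hdist⟩ := h
  set N := M24 ⊓ Subgroup.normalizer (P0 : Set (Equiv.Perm GolayPt)) with hN
  have hlow : 1024 ≤ Nat.card N := card_P0 ▸ Subgroup.card_le_of_le
    (le_inf P0_le Subgroup.le_normalizer)
  have hup : (SylTwoData.wits.map pm).length * Nat.card N ≤ Nat.card (cz zed) := by
    refine length_mul_card_le (C := N) (H := cz zed) (fun x hx => eq_of_normalizes hx.1 hx.2) (fun g hg => ?_)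
      fun i j hi hj hij => ?_
    · obtain ⟨w, hw, rfl⟩ := List.mem_map.1 hg
      obtain ⟨i, hi, rfl⟩ := List.mem_iff_getElem.1 hw
      have h1 := PermCode.allLt_spec hwit i (hlen ▸ hi)
      simp only [Bool.and_eq_true] at h1
      rw [List.getD_eq_getElem _ _ hi] at h1
      obtain ⟨⟨⟨hg', -⟩, -⟩, hz⟩ := h1
      refine mem_cz.2 ⟨pm_mem hg', ?_⟩
      rw [zed, ← pm_mul (good_ok hg') zed_facts.2.2.2.2, ← pm_mul zed_facts.2.2.2.2 (good_ok hg')]
      exact pm_eq_of_eqc (ok_pm_mul (good_ok hg') zed_facts.2.2.2.2)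
        (ok_pm_mul zed_facts.2.2.2.2 (good_ok hg')) hz
    by_contra hne
    rw [List.length_map] at hi hj
    rw [List.getElem_map, List.getElem_map] at hij
    have h1 := PermCode.allLt_spec hwit i (hlen ▸ hi)
    have h2 := PermCode.allLt_spec hwit j (hlen ▸ hj)
    simp only [Bool.and_eq_true] at h1 h2
    rw [List.getD_eq_getElem _ _ hi, List.getD_eq_getElem _ _ (hlen'.symm ▸ (hlen ▸ hi))] at h1
    rw [List.getD_eq_getElem _ _ hj, List.getD_eq_getElem _ _ (hlen'.symm ▸ (hlen ▸ hj))] at h2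
    have h3 := PermCode.allLt_spec (PermCode.allLt_spec hdist i (hlen ▸ hi)) j (hlen ▸ hj)
    rw [Bool.eq_false_iff.2 (fun e => hne (Nat.eq_of_beq_eq_true e)), Bool.false_or,
      List.any_eq_true] at h3
    obtain ⟨s, hs, hall⟩ := h3
    rw [List.getD_eq_getElem _ _ hi, List.getD_eq_getElem _ _ hj,
      List.getD_eq_getElem _ _ (hlen'.symm ▸ (hlen ▸ hi)),
      List.getD_eq_getElem _ _ (hlen'.symm ▸ (hlen ▸ hj))] at hall
    obtain ⟨⟨⟨hgi, hoki⟩, honei⟩, -⟩ := h1
    obtain ⟨⟨⟨hgj, hokj⟩, honej⟩, -⟩ := h2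
    have oi := PermCode.ok_of_okb hoki
    have oj := PermCode.ok_of_okb hokj
    have hinv : ∀ {w v : ℕ}, PermCode.Ok 24 w → PermCode.Ok 24 v → isOne (PermCode.mul 24 v w) = true →
        pm v = (pm w)⁻¹ := fun hw hv e => by
      have e' := pm_eq_one (ok_pm_mul hv hw) e
      rw [pm_mul hv hw] at e'
      exact eq_inv_of_mul_eq_one_left e'
    have ei := hinv (good_ok hgi) oi honei
    have ej := hinv (good_ok hgj) oj honej
    have hd := ok_pm_mul oi (good_ok hgj)
    have hd' := ok_pm_mul oj (good_ok hgi)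
    have hx := ok_pm_mul (ok_pm_mul hd (gens_ok hs)) hd'
    obtain ⟨e, he, heok, hee⟩ := exists_code_of_mem syl2_closed
      ((Subgroup.mem_normalizer_iff.1 hij.2 (pm s)).1 (pm_mem_spanPts hs))
    have hpe := hee.trans (conj_code oi (good_ok hgj) oj (good_ok hgi) (gens_ok hs) ei ej).symm
    have hce := canon_eq heok hx hpe
    rw [Nat.eq_of_beq_eq_true (List.all_eq_true.1 hcanon e he)] at hce
    have := List.all_eq_true.1 hall e he
    rw [← hce, Nat.beq_refl] at this
    exact Bool.noConfusion this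
  rw [List.length_map, hlen, card_cz_zed] at hup
  omega

end CfsgLib.M24Elt.SylTwo

namespace CfsgLib.M24Elt.SylTwo

open Cfsg CfsgLib.Comp CfsgLib.Golay CfsgLib.M24Elt

theorem card_sylow_two (P : Sylow 2 M24) : Nat.card P = 1024 := by
  haveI : Fact (Nat.Prime 2) := ⟨Nat.prime_two⟩
  rw [P.card_eq_multiplicity, card_M24]
  have e : (244823040 : ℕ).factorization 2 = 10 := by
    rw [show (244823040 : ℕ) = 2 ^ 10 * 239085 by norm_num, Nat.factorization_mul (by norm_num) (by norm_num),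
      Finsupp.add_apply, Nat.Prime.factorization_pow Nat.prime_two, Finsupp.single_eq_same,
      Nat.factorization_eq_zero_of_not_dvd (by norm_num : ¬ 2 ∣ 239085)]
  rw [e]; norm_num

/-- The standard Sylow 2-subgroup inside M24. -/
noncomputable def S0 : Sylow 2 M24 :=
  haveI : Fact (Nat.Prime 2) := ⟨Nat.prime_two⟩
  Sylow.ofCard (P0.subgroupOf M24) (by
    rw [Nat.card_congr (Subgroup.subgroupOfEquivOfLe P0_le).toEquiv, card_P0, card_M24]
    have e : (244823040 : ℕ).factorization 2 = 10 := by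
      rw [show (244823040 : ℕ) = 2 ^ 10 * 239085 by norm_num,
        Nat.factorization_mul (by norm_num) (by norm_num), Finsupp.add_apply,
        Nat.Prime.factorization_pow Nat.prime_two, Finsupp.single_eq_same,
        Nat.factorization_eq_zero_of_not_dvd (by norm_num : ¬ 2 ∣ 239085)]
    rw [e]; norm_num)

theorem coe_S0 : (S0 : Subgroup M24) = P0.subgroupOf M24 := by rw [S0, Sylow.coe_ofCard]

/-- Any Sylow 2-subgroup modulo its centre is the standard quotient. -/
theorem nonempty_quot_equiv (P : Sylow 2 M24) :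
    Nonempty ((↥(P : Subgroup M24) ⧸ Subgroup.center ↥(P : Subgroup M24)) ≃* Q0) := by
  haveI : Fact (Nat.Prime 2) := ⟨Nat.prime_two⟩
  let e : ↥(P : Subgroup M24) ≃* P0 :=
    (Sylow.equiv P S0).trans ((MulEquiv.subgroupCongr coe_S0).trans (Subgroup.subgroupOfEquivOfLe P0_le))
  refine ⟨QuotientGroup.congr _ _ e ?_⟩
  ext y
  rw [Subgroup.mem_map, Subgroup.mem_center_iff]
  constructor
  · rintro ⟨x, hx, rfl⟩ z
    obtain ⟨w, rfl⟩ := e.surjective z
    show e w * e x = e x * e w
    rw [← map_mul, ← map_mul, Subgroup.mem_center_iff.1 hx w]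
  · intro h
    refine ⟨e.symm y, Subgroup.mem_center_iff.2 fun w => e.injective ?_, e.apply_symm_apply y⟩
    rw [map_mul, map_mul, e.apply_symm_apply, h]

theorem card_normalizer_sylow (P : Sylow 2 M24) :
    Nat.card ↥(Subgroup.normalizer ((P : Subgroup M24) : Set M24)) = 1024 := by
  haveI : Fact (Nat.Prime 2) := ⟨Nat.prime_two⟩
  have h0 : Nat.card ↥(Subgroup.normalizer ((S0 : Subgroup M24) : Set M24)) = 1024 := by
    rw [← card_normalizer, coe_S0]
    have hiff : ∀ n : M24, n ∈ Subgroup.normalizer ((P0.subgroupOf M24 : Subgroup M24) : Set M24) ↔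
        (n : Equiv.Perm GolayPt) ∈ Subgroup.normalizer (P0 : Set (Equiv.Perm GolayPt)) := by
      intro n
      simp only [Subgroup.mem_normalizer_iff, Subgroup.mem_subgroupOf, Subgroup.coe_mul, Subgroup.coe_inv,
        SetLike.mem_coe]
      refine ⟨fun h x => ⟨fun hx => (h ⟨x, P0_le hx⟩).1 hx, fun hx => ?_⟩, fun h x => h x⟩
      have hxM : x ∈ M24 := by
        have := mul_mem (mul_mem (inv_mem n.2) (P0_le hx)) n.2
        rwa [show (n : Equiv.Perm GolayPt)⁻¹ * ((n : Equiv.Perm GolayPt) * x * (n : Equiv.Perm GolayPt)⁻¹) *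
          (n : Equiv.Perm GolayPt) = x by group] at this
      exact (h ⟨x, hxM⟩).2 hx
    refine Nat.card_congr
      { toFun := fun n => ⟨(n.1 : M24), ?_⟩
        invFun := fun g => ⟨⟨g.1, g.2.1⟩, ?_⟩
        left_inv := fun n => rfl
        right_inv := fun g => rfl }
    · exact ⟨(n.1 : M24).2, (hiff _).1 n.2⟩
    · exact (hiff _).2 g.2.2
  have hP : Nat.card (Sylow 2 M24) = (Subgroup.normalizer ((P : Subgroup M24) : Set M24)).index :=
    P.card_eq_index_normalizer
  have hS : Nat.card (Sylow 2 M24) = (Subgroup.normalizer ((S0 : Subgroup M24) : Set M24)).index :=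
    (S0 : Sylow 2 M24).card_eq_index_normalizer
  have e1 := (Subgroup.normalizer ((P : Subgroup M24) : Set M24)).index_mul_card
  have e2 := (Subgroup.normalizer ((S0 : Subgroup M24) : Set M24)).index_mul_card
  rw [← hP] at e1
  rw [← hS, h0, card_M24] at e2
  rw [card_M24] at e1
  nlinarith

end CfsgLib.M24Elt.SylTwo
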