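import Cfsg.Agent.Lib.M24Elt.AutBound

/-!
Kernel checks giving the normal forms of automorphism images for a subgroup of M24 generated by an
element `x` of prime order `p` (with Sylow subgroup of order `p`) and an involution `y`.
-/

set_option autoImplicit false
set_option maxHeartbeats 300000

namespace CfsgLib.M24Elt.AutBound

open Cfsg CfsgLib.Comp CfsgLib.Golay CfsgLib.M24Elt

/-- An element of prime order is conjugate into any subgroup of full `p`-power order. -/
theorem exists_conj_mem {G : Type*} [Group G] [Finite G] {p k : ℕ} [hp : Fact p.Prime] {S : Subgroup G}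
    (hS : Nat.card S = p ^ k) (hk : ¬ p ^ (k + 1) ∣ Nat.card G) {g : G} (hg : orderOf g = p) :
    ∃ c : G, c * g * c⁻¹ ∈ S := by
  have hind : ¬ p ∣ S.index := by
    intro hd
    apply hk
    rw [← S.card_mul_index, hS, pow_succ]
    exact Nat.mul_dvd_mul_left _ hd
  let P : Sylow p G := (IsPGroup.of_card hS).toSylow hind
  obtain ⟨Q, hQ⟩ := (IsPGroup.of_card (n := 1) (G := Subgroup.zpowers g)
    (by rw [Nat.card_zpowers, hg, pow_one])).exists_le_sylow
  obtain ⟨c, hc⟩ := MulAction.exists_smul_eq G P Q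
  have hgQ : g ∈ ((c • P : Sylow p G) : Subgroup G) := hc ▸ hQ (Subgroup.mem_zpowers _)
  obtain ⟨u, hu, huv⟩ := hgQ
  refine ⟨c⁻¹, ?_⟩
  have e : c⁻¹ * g * c⁻¹⁻¹ = u := by
    rw [← show c * u * c⁻¹ = g from huv]; group
  rw [e]
  exact hu

/-- Certificate data. -/
structure Data where
  /-- the order of `x` -/
  p : ℕ
  /-- the code of `x` -/
  x : ℕ
  /-- the code of `y` -/
  y : ℕ
  /-- the powers of `x` -/
  pows : List ℕ
  /-- representatives of the orbits of `x`, in rows of 32 -/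
  reps : List (List ℕ)
  /-- the number of representatives -/
  nR : ℕ
  /-- images of the conjugates of representatives under `y` -/
  wit : List (List (List ℕ))
  /-- exponents of the classes of elements of order `p` -/
  ks : List ℕ
  /-- conjugators for the powers of `x`, with exponents from `ks` -/
  conjs : List (ℕ × ℕ)
  /-- the relations of `(x, y)` -/
  rels : List (List Bool × ℕ)
  /-- the pairs satisfying all relations -/
  goods : List (ℕ × ℕ)
  /-- failing relation for each remaining pair -/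
  bad : List (List (List ℕ))
  /-- the exponent of the Sylow 2-subgroup -/
  e : ℕ
  /-- generators of a Sylow 2-subgroup -/
  sylGens : List ℕ
  /-- its elements -/
  sylElts : List (ℕ × List ℕ)
  /-- positions of its involutions -/
  sylPos : List ℕ

variable (D : Data)

/-- A representative. -/
noncomputable def Data.rep (j : ℕ) : ℕ := (D.reps.getD (j / 32) []).getD (j % 32) 0

/-- A power of `x`. -/
noncomputable def Data.pw (i : ℕ) : ℕ := D.pows.getD i 0

/-- A conjugate of a representative, coded by `i + 32 * j`. -/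
noncomputable def Data.at' (v : ℕ) : ℕ :=
  PermCode.mul 24 (D.pw (v % 32)) (PermCode.mul 24 (D.rep (v / 32)) (D.pw ((D.p - v % 32) % D.p)))

/-- Validity of a position. -/
noncomputable def Data.posOk (v : ℕ) : Bool := Nat.blt (v % 32) D.p && Nat.blt (v / 32) D.nR

/-- Membership and power tables. -/
noncomputable def baseOk (memH : ℕ → Bool) : Bool :=
  (memH D.x && memH D.y && Nat.blt 0 D.p && Nat.blt D.p 33) &&
  isOne (powc D.x D.p) && !isOne D.x && isOne (powc D.y 2) && !isOne D.y &&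
  PermCode.allLt D.p (fun i => PermCode.okb 24 (D.pw i) && eqc (D.pw i) (powc D.x i)) &&
  PermCode.allLt D.nR (fun j => memH (D.rep j)) && D.rels.all (relHolds D.x D.y)

/-- The orbits are permuted by `y`. -/
noncomputable def closureOk : Bool :=
  PermCode.allLt D.nR fun j => PermCode.allLt D.p fun i =>
    strictRow ((D.wit.getD (j / 32) []).getD (j % 32) []) i j
where
  /-- One step. -/
  strictRow (row : List ℕ) (i j : ℕ) : Bool :=
    D.posOk (row.getD i 0) &&
      eqc (PermCode.mul 24 D.y (D.at' (i + 32 * j))) (PermCode.mul 24 (D.at' (row.getD i 0)) D.y)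

/-- The powers of `x` are conjugate to those with exponent in `ks`. -/
noncomputable def classesOk (memH : ℕ → Bool) : Bool :=
  PermCode.allLt D.p fun k => Nat.beq k 0 ||
    (memH (D.conjs.getD k (0, 0)).1 && Nat.blt (D.conjs.getD k (0, 0)).2 D.p &&
      D.ks.contains (D.conjs.getD k (0, 0)).2 &&
      eqc (PermCode.mul 24 (D.conjs.getD k (0, 0)).1 (D.pw (D.conjs.getD k (0, 0)).2))
        (PermCode.mul 24 (D.pw k) (D.conjs.getD k (0, 0)).1))

/-- Involutions of the Sylow subgroup are excluded or listed. -/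
noncomputable def sylOk (memH : ℕ → Bool) (ex : ℕ → Bool) : Bool :=
  closedCheck D.sylGens D.sylElts && D.sylGens.all memH &&
    Nat.beq D.sylPos.length D.sylElts.length &&
    (List.zipWith (fun (s : ℕ × List ℕ) v =>
      !isOne (powc s.1 2) || isOne s.1 || ex s.1 || (D.posOk v && eqc s.1 (D.at' v))) D.sylElts D.sylPos).all id

/-- Every pair is good or breaks a relation. -/
noncomputable def pairsOk : Bool :=
  PermCode.allLt D.ks.length fun a => Nat.blt (D.ks.getD a 0) D.p && PermCode.allLt D.nR fun j =>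
    D.goods.contains (D.ks.getD a 0, j) ||
      !relHolds (D.pw (D.ks.getD a 0)) (D.rep j)
        (D.rels.getD (((D.bad.getD a []).getD (j / 32) []).getD (j % 32) 0) ([], 0))

variable {D} {H : Subgroup (Equiv.Perm GolayPt)} {memH : ℕ → Bool}
  (hmem : ∀ c, memH c = true → PermCode.Ok 24 c ∧ pm c ∈ H)

include hmem

theorem base_spec (hb : baseOk D memH = true) :
    (pm D.x ∈ H ∧ pm D.y ∈ H ∧ 0 < D.p ∧ D.p < 33) ∧
    (pm D.x ^ D.p = 1 ∧ pm D.x ≠ 1 ∧ pm D.y ^ 2 = 1 ∧ pm D.y ≠ 1) ∧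
    (∀ i < D.p, PermCode.Ok 24 (D.pw i) ∧ pm (D.pw i) = pm D.x ^ i) ∧
    (∀ j < D.nR, PermCode.Ok 24 (D.rep j) ∧ pm (D.rep j) ∈ H) ∧
    ∀ r ∈ D.rels, wordProd (pm D.x) (pm D.y) r.1 ^ r.2 = 1 := by
  simp only [baseOk, Bool.and_eq_true, Nat.blt_eq, Bool.not_eq_true'] at hb
  obtain ⟨⟨⟨⟨⟨⟨⟨⟨⟨⟨hx, hy⟩, hp⟩, hp'⟩, hxp⟩, hx1⟩, hy2⟩, hy1⟩, hpw⟩, hrep⟩, hrels⟩ := hb
  have hxo := (hmem _ hx).1
  have hyo := (hmem _ hy).1
  refine ⟨⟨(hmem _ hx).2, (hmem _ hy).2, hp, hp'⟩,
    ⟨by rw [← pm_powc hxo]; exact pm_eq_one (powc_ok hxo _) hxp, pm_ne_one hxo hx1,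
      by rw [← pm_powc hyo]; exact pm_eq_one (powc_ok hyo _) hy2, pm_ne_one hyo hy1⟩,
    fun i hi => ?_, fun j hj => hmem _ (PermCode.allLt_spec hrep j hj),
    fun r hr => (relHolds_iff hxo hyo r).1 (List.all_eq_true.1 hrels r hr)⟩
  have h := PermCode.allLt_spec hpw i hi
  rw [Bool.and_eq_true] at h
  exact ⟨PermCode.ok_of_okb h.1,
    (pm_eq_of_eqc (PermCode.ok_of_okb h.1) (powc_ok hxo i) h.2).trans (pm_powc hxo i)⟩

theorem at_spec (hb : baseOk D memH = true) {v : ℕ} (hv : D.posOk v = true) :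
    PermCode.Ok 24 (D.at' v) ∧
      pm (D.at' v) = pm D.x ^ (v % 32) * pm (D.rep (v / 32)) * (pm D.x ^ (v % 32))⁻¹ := by
  obtain ⟨⟨-, -, hp, -⟩, ⟨hxp, -, -, -⟩, hpw, hrep, -⟩ := base_spec hmem hb
  simp only [Data.posOk, Bool.and_eq_true, Nat.blt_eq] at hv
  obtain ⟨h1, e1⟩ := hpw _ hv.1
  obtain ⟨h2, -⟩ := hrep _ hv.2
  obtain ⟨h3, e3⟩ := hpw ((D.p - v % 32) % D.p) (Nat.mod_lt _ hp)
  rw [Data.at']
  refine ⟨ok_pm_mul h1 (ok_pm_mul h2 h3), ?_⟩
  rw [pm_mul h1 (ok_pm_mul h2 h3), pm_mul h2 h3, e1, e3, mul_assoc]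
  congr 2
  refine eq_inv_of_mul_eq_one_left ?_
  rw [← pow_mod_self hxp, ← pow_add, Nat.sub_add_cancel hv.1.le, hxp]
where
  pow_mod_self {M : Type} [Monoid M] {a : M} {p k : ℕ} (h : a ^ p = 1) : a ^ k = a ^ (k % p) := by
    conv_lhs => rw [← Nat.mod_add_div k p, pow_add, pow_mul, h, one_pow, mul_one]

/-- The set covered by the orbits. -/
def orbSet (D : Data) : Set (Equiv.Perm GolayPt) :=
  {g | ∃ j < D.nR, ∃ i < D.p, g = pm D.x ^ i * pm (D.rep j) * (pm D.x ^ i)⁻¹}

omit hmem in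
theorem mem_orbSet {D : Data} {g : Equiv.Perm GolayPt} : g ∈ orbSet D ↔
    ∃ j < D.nR, ∃ i < D.p, g = pm D.x ^ i * pm (D.rep j) * (pm D.x ^ i)⁻¹ := Iff.rfl

theorem orbSet_conj (hb : baseOk D memH = true) (hc : closureOk D = true)
    {h : Equiv.Perm GolayPt} (hh : h ∈ Subgroup.closure {pm D.x, pm D.y}) :
    ∀ g ∈ orbSet D, h * g * h⁻¹ ∈ orbSet D := by
  obtain ⟨⟨hxH, hyH, hp, hp32⟩, ⟨hxp, -, -, -⟩, -, -, -⟩ := base_spec hmem hb
  have hyo : PermCode.Ok 24 D.y := by
    simp only [baseOk, Bool.and_eq_true] at hb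
    exact (hmem _ hb.1.1.1.1.1.1.1.1.1.2).1
  have hx : ∀ g ∈ orbSet D, pm D.x * g * (pm D.x)⁻¹ ∈ orbSet D := by
    rintro g ⟨j, hj, i, hi, rfl⟩
    refine ⟨j, hj, (i + 1) % D.p, Nat.mod_lt _ hp, ?_⟩
    rw [← at_spec.pow_mod_self hxp, pow_succ']
    group
  have hy : ∀ g ∈ orbSet D, pm D.y * g * (pm D.y)⁻¹ ∈ orbSet D := by
    rintro g ⟨j, hj, i, hi, rfl⟩
    have h1 := PermCode.allLt_spec (PermCode.allLt_spec hc j hj) i hi
    simp only [closureOk.strictRow, Bool.and_eq_true] at h1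
    generalize ((D.wit.getD (j / 32) []).getD (j % 32) []).getD i 0 = v at h1
    have hsrc : D.posOk (i + 32 * j) = true := by
      simp only [Data.posOk, Bool.and_eq_true, Nat.blt_eq]
      omega
    obtain ⟨ha, ea⟩ := at_spec hmem hb hsrc
    obtain ⟨hv, ev⟩ := at_spec hmem hb h1.1
    have e := pm_eq_of_eqc (ok_pm_mul hyo ha) (ok_pm_mul hv hyo) h1.2
    rw [pm_mul hyo ha, pm_mul hv hyo, ea, ev,
      show (i + 32 * j) % 32 = i by omega, show (i + 32 * j) / 32 = j by omega] at e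
    have h2 := h1.1
    simp only [Data.posOk, Bool.and_eq_true, Nat.blt_eq] at h2
    exact ⟨v / 32, h2.2, v % 32, h2.1, by rw [e, mul_inv_cancel_right]⟩
  let T : Submonoid (Equiv.Perm GolayPt) :=
    { carrier := {h | ∀ g ∈ orbSet D, h * g * h⁻¹ ∈ orbSet D}
      one_mem' := fun g hg => by simpa using hg
      mul_mem' := fun {a c} ha hc g hg => by
        have := ha _ (hc g hg)
        rwa [show a * c * g * (a * c)⁻¹ = a * (c * g * c⁻¹) * a⁻¹ by group] }
  let U : Subgroup (Equiv.Perm GolayPt) :=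
    { T with
      inv_mem' := fun {z} hz => by
        have e : z⁻¹ = z ^ (orderOf z - 1) := inv_eq_of_mul_eq_one_right (by
          rw [← pow_succ', Nat.sub_add_cancel (orderOf_pos z), pow_orderOf_eq_one])
        show z⁻¹ ∈ T
        rw [e]; exact pow_mem hz _ }
  have hle : Subgroup.closure {pm D.x, pm D.y} ≤ U := by
    rw [Subgroup.closure_le]
    rintro z (rfl | rfl)
    · exact hx
    · exact hy
  exact hle hh

/-- The main bound. -/
theorem card_out_le' (hb : baseOk D memH = true) (hc : closureOk D = true)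
    (hk : classesOk D memH = true) {ex : ℕ → Bool} (hs : sylOk D memH ex = true)
    (hpairs : pairsOk D = true) [hp : Fact D.p.Prime] {m : ℕ} (hcard : Nat.card H = m)
    (hspan : Nat.card (PermCode.span 24 [D.x, D.y]) = m) (hsq : ¬ D.p ^ 2 ∣ m)
    (hsyl : Nat.card (PermCode.span 24 D.sylGens) = 2 ^ D.e) (h2 : ¬ 2 ^ (D.e + 1) ∣ m)
    {T : Equiv.Perm GolayPt → Prop} (hT : ∀ h g, T g → T (h * g * h⁻¹))
    (hex : ∀ c, PermCode.Ok 24 c → ex c = true → ¬ T (pm c))
    (hTy : ∀ (φ : MulAut H) (y : H), (y : Equiv.Perm GolayPt) = pm D.y → T (φ y)) :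
    Nat.card (Out H) ≤ D.goods.length := by
  obtain ⟨⟨hxH, hyH, hp0, -⟩, ⟨hxp, hx1, hy2, hy1⟩, hpw, hrep, hrels⟩ := base_spec hmem hb
  have hHspan : spanPts [D.x, D.y] = H := by
    have hle : spanPts [D.x, D.y] ≤ H := spanPts_le fun s hs => by
      simp only [List.mem_cons, List.not_mem_nil, or_false] at hs
      rcases hs with rfl | rfl
      · exact hxH
      · exact hyH
    exact Subgroup.eq_of_le_of_card_ge hle (by rw [card_spanPts, hspan, hcard])
  have hclosure : Subgroup.closure {pm D.x, pm D.y} = H := by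
    refine le_antisymm ((Subgroup.closure_le H).2 ?_) (hHspan ▸ spanPts_le fun s hs => ?_)
    · rintro z (rfl | rfl)
      · exact hxH
      · exact hyH
    · simp only [List.mem_cons, List.not_mem_nil, or_false] at hs
      rcases hs with rfl | rfl <;> exact Subgroup.subset_closure (by simp)
  let x : H := ⟨pm D.x, hxH⟩
  let y : H := ⟨pm D.y, hyH⟩
  have hgen : Subgroup.closure {x, y} = ⊤ := by
    apply Subgroup.map_injective H.subtype_injective
    rw [MonoidHom.map_closure, Set.image_insert_eq, Set.image_singleton, ← MonoidHom.range_eq_map,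
      Subgroup.range_subtype]
    exact hclosure
  have hxo : orderOf x = D.p := orderOf_eq_prime (Subtype.ext hxp) fun e => hx1 (congrArg Subtype.val e)
  have hyo : orderOf y = 2 := orderOf_eq_prime (Subtype.ext hy2) fun e => hy1 (congrArg Subtype.val e)
  let R : List H := (List.finRange D.nR).map fun j : Fin D.nR => ⟨pm (D.rep j), (hrep j j.2).2⟩
  have hrels' : ∀ r ∈ D.rels, wordProd x y r.1 ^ r.2 = 1 := fun r hr => by
    apply H.subtype_injective
    rw [map_pow, map_wordProd, map_one]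
    exact hrels r hr
  have hxclass : ∀ φ : MulAut H, ∃ k ∈ D.ks, ∃ h : H, φ x = h * x ^ k * h⁻¹ := by
    intro φ
    have ho : orderOf (φ x) = D.p := (φ.orderOf_eq x).trans hxo
    obtain ⟨c, hc⟩ := exists_conj_mem (S := Subgroup.zpowers x) (k := 1)
      (by rw [Nat.card_zpowers, hxo, pow_one]) (by rw [hcard]; exact hsq) ho
    rw [← mem_powers_iff_mem_zpowers, Submonoid.mem_powers_iff] at hc
    obtain ⟨k, hk'⟩ := hc
    have hk0 : k % D.p ≠ 0 := by
      intro e
      have : x ^ k = 1 := by rw [← Nat.mod_add_div k D.p, e, zero_add, pow_mul, ← hxo, pow_orderOf_eq_one, one_pow]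
      rw [this, eq_comm, conj_eq_one_iff] at hk'
      rw [hk', orderOf_one] at ho
      exact hp.out.one_lt.ne ho
    have h1 := PermCode.allLt_spec hk (k % D.p) (Nat.mod_lt _ hp0)
    simp only [Bool.or_eq_true, Bool.and_eq_true, Nat.beq_eq, Nat.blt_eq, hk0, false_or,
      List.contains_iff_mem] at h1
    obtain ⟨⟨⟨hcm, hlt⟩, hin⟩, he⟩ := h1
    generalize D.conjs.getD (k % D.p) (0, 0) = q at hcm hlt hin he
    obtain ⟨hq, hqH⟩ := hmem _ hcm
    obtain ⟨ho1, e1⟩ := hpw _ hlt
    obtain ⟨ho2, e2⟩ := hpw (k % D.p) (Nat.mod_lt _ hp0)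
    have e := pm_eq_of_eqc (ok_pm_mul hq ho1) (ok_pm_mul ho2 hq) he
    rw [pm_mul hq ho1, pm_mul ho2 hq, e1, e2] at e
    let a : H := ⟨pm q.1, hqH⟩
    have ea : a * x ^ q.2 = x ^ k * a := by
      rw [show x ^ k = x ^ (k % D.p) by rw [← hxo, pow_mod_orderOf]]
      exact Subtype.ext e
    refine ⟨q.2, hin, c⁻¹ * a, ?_⟩
    calc φ x = c⁻¹ * (x ^ k) * c := by rw [hk']; group
      _ = c⁻¹ * (a * x ^ q.2 * a⁻¹) * c := by rw [ea, mul_inv_cancel_right]
      _ = c⁻¹ * a * x ^ q.2 * (c⁻¹ * a)⁻¹ := by group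
  have hyclass : ∀ φ : MulAut H, ∀ g : H, (∃ h : H, g = h * φ y * h⁻¹) →
      ∃ r ∈ R, ∃ i < D.p, g = x ^ i * r * (x ^ i)⁻¹ := by
    rintro φ g ⟨h, rfl⟩
    simp only [sylOk, Bool.and_eq_true, List.all_eq_true] at hs
    obtain ⟨⟨⟨hcl, hgm⟩, hlen⟩, hz⟩ := hs
    have hle : spanPts D.sylGens ≤ H := spanPts_le fun s hs => (hmem _ (hgm s hs)).2
    haveI : Fact (Nat.Prime 2) := ⟨Nat.prime_two⟩
    obtain ⟨c, hc'⟩ := exists_conj_mem (S := (spanPts D.sylGens).subgroupOf H) (k := D.e)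
      (by rw [Nat.card_congr (Subgroup.subgroupOfEquivOfLe hle).toEquiv, card_spanPts, hsyl])
      (by rw [hcard]; exact h2) ((φ.orderOf_eq y).trans hyo)
    obtain ⟨s, hs', hso, hse⟩ := exists_code_of_mem hcl (Subgroup.mem_subgroupOf.1 hc')
    obtain ⟨n, hn, rfl⟩ := List.mem_iff_getElem.1 hs'
    have hn' : n < D.sylPos.length := by rw [Nat.eq_of_beq_eq_true hlen]; exact hn
    have h1 := hz _ (List.mem_iff_getElem.2 ⟨n, by simp [hn, hn'], rfl⟩)
    simp only [List.getElem_zipWith, id_eq, Bool.or_eq_true, Bool.and_eq_true, Bool.not_eq_true'] at h1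
    have hTs : T (pm (D.sylElts[n]).1) := by
      rw [hse]
      exact hT _ _ (hTy φ y rfl)
    have hyφ : φ y ^ 2 = 1 := by rw [← map_pow, ← hyo, pow_orderOf_eq_one, map_one]
    have hmemo : pm (D.sylElts[n]).1 ∈ orbSet D := by
      rcases h1 with ((h1 | h1) | h1) | ⟨hv, he⟩
      · exfalso
        refine Bool.noConfusion (h1.symm.trans (isOne_of_pm (powc_ok hso 2) ?_))
        rw [pm_powc hso, hse, ← Subgroup.coe_pow, conj_pow, hyφ, mul_one, mul_inv_cancel,
          Subgroup.coe_one]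
      · exfalso
        have e := pm_eq_one hso h1
        rw [hse, ← Subgroup.coe_one, Subtype.val_inj, conj_eq_one_iff] at e
        have := (φ.orderOf_eq y).trans hyo
        rw [e, orderOf_one] at this
        omega
      · exact absurd hTs (hex _ hso h1)
      · obtain ⟨hao, ea⟩ := at_spec hmem hb hv
        simp only [Data.posOk, Bool.and_eq_true, Nat.blt_eq] at hv
        exact ⟨_, hv.2, _, hv.1, (pm_eq_of_eqc hso hao he).trans ea⟩
    have hb' := orbSet_conj hmem hb hc (h := ((h * c⁻¹ : H) : Equiv.Perm GolayPt))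
      (by rw [hclosure]; exact SetLike.coe_mem _) _ hmemo
    obtain ⟨j, hj, i, hi, e⟩ := hb'
    refine ⟨⟨pm (D.rep j), (hrep j hj).2⟩, List.mem_map.2 ⟨⟨j, hj⟩, List.mem_finRange _, rfl⟩, i, hi,
      Subtype.ext ?_⟩
    rw [hse] at e
    refine Eq.trans ?_ (e.trans ?_)
    · push_cast
      group
    · rfl
  have key := card_out_le hgen
    (goods := D.goods.map fun q : ℕ × ℕ => (x ^ q.1, if hq : q.2 < D.nR then ⟨pm (D.rep q.2), (hrep q.2 hq).2⟩ else 1))
    fun φ => by
      obtain ⟨h, k, hkk, r, hr, e1, e2, hrel⟩ := exists_normal_form hrels' φ (hxclass φ) (hyclass φ)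
      obtain ⟨⟨j, hj⟩, -, rfl⟩ := List.mem_map.1 hr
      refine ⟨h, ?_⟩
      rw [e1, e2, List.mem_map]
      obtain ⟨a, ha, rfl⟩ := List.mem_iff_getElem.1 hkk
      have h1 := PermCode.allLt_spec hpairs a ha
      rw [Bool.and_eq_true, List.getD_eq_getElem _ _ ha, Nat.blt_eq] at h1
      have h2' := PermCode.allLt_spec h1.2 j hj
      rw [Bool.or_eq_true, List.contains_iff_mem, Bool.not_eq_true'] at h2'
      rcases h2' with hg | hbad
      · exact ⟨_, hg, by rw [dif_pos hj]⟩
      · exfalso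
        obtain ⟨ho1, ep⟩ := hpw _ h1.1
        obtain ⟨ho2, -⟩ := hrep j hj
        generalize hw : D.rels.getD _ ([], 0) = w at hbad
        have hmemw : w ∈ D.rels ∨ w = ([], 0) := by
          rw [← hw]
          rcases Nat.lt_or_ge (((D.bad.getD a []).getD (j / 32) []).getD (j % 32) 0) D.rels.length with h | h
          · exact Or.inl (by rw [List.getD_eq_getElem _ _ h]; exact List.getElem_mem h)
          · exact Or.inr (List.getD_eq_default _ _ h)
        refine Bool.noConfusion (hbad.symm.trans ((relHolds_iff ho1 ho2 w).2 ?_))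
        rcases hmemw with hw' | rfl
        · have := congrArg H.subtype (hrel w hw')
          rw [map_pow, map_wordProd, map_one] at this
          rw [ep]
          exact this
        · exact pow_zero _
  rwa [List.length_map] at key

end CfsgLib.M24Elt.AutBound
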