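import Cfsg.Agent.Lib.M24Elt.Basic

/-!
Conjugacy of elements of prime order of a subgroup of known order into a checked Sylow subgroup.
-/

set_option autoImplicit false

namespace CfsgLib.M24Elt

open Cfsg CfsgLib.Comp CfsgLib.Golay

/-- Inside a subgroup `K` of known order, an element of prime order is conjugate by an element of `K`
to a member of the listed Sylow subgroup. -/
theorem exists_conj_code_in {p k N : ℕ} [hp : Fact p.Prime] {K : Subgroup (Equiv.Perm GolayPt)}
    (hK : Nat.card K = N) {gens : List ℕ} {elts : List (ℕ × List ℕ)}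
    (hgens : ∀ s ∈ gens, pm s ∈ K) (hcl : closedCheck gens elts = true)
    (hcard : Nat.card (PermCode.span 24 gens) = p ^ k) (hk : ¬ p ^ (k + 1) ∣ N)
    {g : Equiv.Perm GolayPt} (hg : g ∈ K) (hord : orderOf g = p) :
    ∃ u ∈ K, ∃ e ∈ elts, PermCode.Ok 24 e.1 ∧ u * g * u⁻¹ = pm e.1 := by
  let S : Subgroup K := (spanPts gens).subgroupOf K
  have hS : Nat.card S = p ^ k := by
    rw [Nat.card_congr (Subgroup.subgroupOfEquivOfLe (spanPts_le hgens)).toEquiv, card_spanPts, hcard]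
  have hind : ¬ p ∣ S.index := by
    intro hd
    apply hk
    rw [← hK, ← S.card_mul_index, hS, pow_succ]
    exact Nat.mul_dvd_mul_left _ hd
  let P : Sylow p K := (IsPGroup.of_card hS).toSylow hind
  have hg' : orderOf (⟨g, hg⟩ : K) = p := by rw [← Subgroup.orderOf_coe]; exact hord
  obtain ⟨Q, hQ⟩ := (IsPGroup.of_card (n := 1) (G := Subgroup.zpowers (⟨g, hg⟩ : K))
    (by rw [Nat.card_zpowers, hg', pow_one])).exists_le_sylow
  obtain ⟨c, hc⟩ := MulAction.exists_smul_eq K P Q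
  have hgQ : (⟨g, hg⟩ : K) ∈ ((c • P : Sylow p K) : Subgroup K) :=
    hc ▸ hQ (Subgroup.mem_zpowers _)
  obtain ⟨u, hu, huv⟩ := hgQ
  have huv' : c * u * c⁻¹ = (⟨g, hg⟩ : K) := huv
  have hu' : (u : Equiv.Perm GolayPt) ∈ spanPts gens := hu
  obtain ⟨e, he, heok, heu⟩ := exists_code_of_mem hcl hu'
  refine ⟨(c : Equiv.Perm GolayPt)⁻¹, inv_mem c.2, e, he, heok, ?_⟩
  rw [heu, ← show (c : Equiv.Perm GolayPt) * u * (c : Equiv.Perm GolayPt)⁻¹ = g from congrArg Subtype.val huv']
  group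

end CfsgLib.M24Elt
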