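import Cfsg.Agent.Lib.M24Elt.Transitive
import Cfsg.Agent.Lib.M24Elt.Sylow
import Cfsg.Agent.Lib.M24Elt.CentData

/-!
Centralisers of the involutions of M24 and the normaliser of a subgroup of order 7: each lies in the
stabiliser of one canonical object, and distinct conjugates under that stabiliser bound it from above.
-/

set_option autoImplicit false

namespace CfsgLib.M24Elt

open Cfsg CfsgLib.Comp CfsgLib.Golay
open scoped Pointwise

/-- A code rebuilt from its 24 entries. -/
noncomputable def canon (c : ℕ) : ℕ := PermCode.build 24 (PermCode.get c)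

theorem build_congr : ∀ (k : ℕ) (f g : ℕ → ℕ), (∀ i, i < k → f i = g i) →
    PermCode.build k f = PermCode.build k g
  | 0, f, g, _ => rfl
  | k + 1, f, g, h => by
    rw [PermCode.build_succ, PermCode.build_succ, build_congr k f g fun i hi => h i (by omega),
      h k (by omega)]

theorem canon_congr (n : ℕ) {a b : ℕ} (h : agree n a b = true) :
    PermCode.build n (PermCode.get a) = PermCode.build n (PermCode.get b) :=
  build_congr n _ _ fun _ hi => Nat.eq_of_beq_eq_true (PermCode.allLt_spec h _ hi)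

theorem canon_eq {a b : ℕ} (ha : PermCode.Ok 24 a) (hb : PermCode.Ok 24 b) (h : pm a = pm b) :
    canon a = canon b :=
  canon_congr _ (eqc_of_pm_eq ha hb h)

/-- Elements in distinct left cosets of `C` bound the order of `C`. -/
theorem length_mul_card_le {G : Type*} [Group G] [Finite G] {C H : Subgroup G} (hC : C ≤ H)
    {l : List G} (hl : ∀ g ∈ l, g ∈ H)
    (hd : ∀ (i j : ℕ) (hi : i < l.length) (hj : j < l.length), l[i]⁻¹ * l[j] ∈ C → i = j) :
    l.length * Nat.card C ≤ Nat.card H := by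
  have h : Nat.card (Fin l.length × C) ≤ Nat.card H := by
    refine Nat.card_le_card_of_injective
      (fun p => ⟨l[p.1.1] * p.2.1, mul_mem (hl _ (List.getElem_mem _)) (hC p.2.2)⟩) ?_
    rintro ⟨i, c⟩ ⟨j, c'⟩ e
    have e' : l[i.1] * (c : G) = l[j.1] * (c' : G) := congrArg Subtype.val e
    have hij : i = j := Fin.ext (hd i.1 j.1 i.2 j.2 (by
      have h2 : l[i.1]⁻¹ * l[j.1] = (c : G) * (c' : G)⁻¹ := by
        rw [eq_mul_inv_iff_mul_eq, mul_assoc, ← e', inv_mul_cancel_left]
      rw [h2]; exact mul_mem c.2 (inv_mem c'.2)))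
    subst hij
    exact Prod.ext rfl (Subtype.ext (mul_left_cancel e'))
  rwa [Nat.card_prod, Nat.card_fin] at h

/-- Witness codes with conjugates. -/
noncomputable def witCheck (r : ℕ) : List ℕ → List ℕ → Bool
  | [], [] => true
  | w :: ws, c :: cs =>
    good w && PermCode.okb 24 c && eqc (PermCode.mul 24 c w) (PermCode.mul 24 w r) && witCheck r ws cs
  | _, _ => false

theorem witCheck_spec {r : ℕ} (hr : PermCode.Ok 24 r) : ∀ {ws cs : List ℕ}, witCheck r ws cs = true →
    ws.length = cs.length ∧ ∀ (i : ℕ) (hi : i < ws.length) (hi' : i < cs.length),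
      good ws[i] = true ∧ PermCode.Ok 24 cs[i] ∧ pm ws[i] * pm r * (pm ws[i])⁻¹ = pm cs[i]
  | [], [], _ => ⟨rfl, fun i hi => absurd hi (by simp)⟩
  | [], _ :: _, h => by simp [witCheck] at h
  | _ :: _, [], h => by simp [witCheck] at h
  | w :: ws, c :: cs, h => by
    simp only [witCheck, Bool.and_eq_true] at h
    obtain ⟨⟨⟨hw, hc⟩, he⟩, hrest⟩ := h
    obtain ⟨hlen, hih⟩ := witCheck_spec hr hrest
    refine ⟨by simp [hlen], fun i hi hi' => ?_⟩
    rcases i with _ | i
    · have hc' := PermCode.ok_of_okb hc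
      have e := pm_eq_of_eqc (ok_pm_mul hc' (good_ok hw)) (ok_pm_mul (good_ok hw) hr) he
      rw [pm_mul hc' (good_ok hw), pm_mul (good_ok hw) hr] at e
      refine ⟨hw, hc', ?_⟩
      show pm w * pm r * (pm w)⁻¹ = pm c
      rw [← e, mul_inv_cancel_right]
    · exact hih i (Nat.lt_of_succ_lt_succ hi) (Nat.lt_of_succ_lt_succ hi')

/-- The centraliser in M24. -/
noncomputable def cz (g : Equiv.Perm GolayPt) : Subgroup (Equiv.Perm GolayPt) :=
  M24 ⊓ Subgroup.centralizer {g}

theorem mem_cz {g x : Equiv.Perm GolayPt} : x ∈ cz g ↔ x ∈ M24 ∧ x * g = g * x := by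
  rw [cz, Subgroup.mem_inf, Subgroup.mem_centralizer_iff]
  exact and_congr_right fun _ => ⟨fun h => (h g rfl).symm, fun h z hz => by
    rw [Set.mem_singleton_iff] at hz; rw [hz, h]⟩

theorem spanPts_le_cz {gens : List ℕ} {r : ℕ} (hr : PermCode.Ok 24 r)
    (h : (gens.all fun s => good s && eqc (PermCode.mul 24 s r) (PermCode.mul 24 r s)) = true) :
    spanPts gens ≤ cz (pm r) := by
  refine spanPts_le fun s hs => ?_
  have h1 := List.all_eq_true.1 h s hs
  rw [Bool.and_eq_true] at h1
  have hs' := good_ok h1.1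
  refine mem_cz.2 ⟨pm_mem h1.1, ?_⟩
  rw [← pm_mul hs' hr, ← pm_mul hr hs']
  exact pm_eq_of_eqc (ok_pm_mul hs' hr) (ok_pm_mul hr hs') h1.2

theorem card_cz_le {r : ℕ} (hr : PermCode.Ok 24 r) {ws cs : List ℕ} (hw : witCheck r ws cs = true)
    (hd : incr (cs.map canon) = true) {H : Subgroup (Equiv.Perm GolayPt)}
    (hH : cz (pm r) ≤ H) (hws : ∀ w ∈ ws, pm w ∈ H) :
    ws.length * Nat.card (cz (pm r)) ≤ Nat.card H := by
  obtain ⟨hlen, hspec⟩ := witCheck_spec hr hw
  rw [← List.length_map (as := ws) pm]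
  refine length_mul_card_le hH (fun g hg => ?_) fun i j hi hj h => ?_
  · obtain ⟨w, hw', rfl⟩ := List.mem_map.1 hg
    exact hws w hw'
  rw [List.length_map] at hi hj
  rw [List.getElem_map, List.getElem_map] at h
  obtain ⟨-, hci, hei⟩ := hspec i hi (hlen ▸ hi)
  obtain ⟨-, hcj, hej⟩ := hspec j hj (hlen ▸ hj)
  have h2 := (mem_cz.1 h).2
  have e : pm cs[i] = pm cs[j] := by
    rw [← hei, ← hej]
    calc pm ws[i] * pm r * (pm ws[i])⁻¹
        = pm ws[i] * (pm r * ((pm ws[i])⁻¹ * pm ws[j])) * (pm ws[j])⁻¹ := by group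
      _ = pm ws[i] * (((pm ws[i])⁻¹ * pm ws[j]) * pm r) * (pm ws[j])⁻¹ := by rw [h2]
      _ = pm ws[j] * pm r * (pm ws[j])⁻¹ := by group
  exact (show (cs.map canon).Nodup from (incr_pairwise hd).imp Nat.ne_of_lt).getElem_inj_iff.1 (by
    rw [List.getElem_map, List.getElem_map]; exact canon_eq hci hcj e :
    (cs.map canon)[i]'(by simp; omega) = (cs.map canon)[j]'(by simp; omega))

theorem card_cz_conj {u g : Equiv.Perm GolayPt} (hu : u ∈ M24) :
    Nat.card (cz (u * g * u⁻¹)) = Nat.card (cz g) := by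
  refine Nat.card_congr
    { toFun := fun x => ⟨u⁻¹ * x * u, mem_cz.2
        ⟨mul_mem (mul_mem (inv_mem hu) (mem_cz.1 x.2).1) hu, ?_⟩⟩
      invFun := fun x => ⟨u * x * u⁻¹, mem_cz.2
        ⟨mul_mem (mul_mem hu (mem_cz.1 x.2).1) (inv_mem hu), ?_⟩⟩
      left_inv := fun x => Subtype.ext (by group)
      right_inv := fun x => Subtype.ext (by group) }
  · have h := (mem_cz.1 x.2).2
    calc u⁻¹ * x.1 * u * g = u⁻¹ * (x.1 * (u * g * u⁻¹)) * u := by group
      _ = u⁻¹ * (u * g * u⁻¹ * x.1) * u := by rw [h]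
      _ = g * (u⁻¹ * x.1 * u) := by group
  · have h := (mem_cz.1 x.2).2
    calc u * x.1 * u⁻¹ * (u * g * u⁻¹) = u * (x.1 * g) * u⁻¹ := by group
      _ = u * (g * x.1) * u⁻¹ := by rw [h]
      _ = u * g * u⁻¹ * (u * x.1 * u⁻¹) := by group

/-! ### Stabilisers -/

theorem card_stab_of_orbit {β : Type*} [MulAction (Equiv.Perm GolayPt) β] {x : β} {S : Set β} {N : ℕ}
    (hx : x ∈ S) (hinv : ∀ {g : Equiv.Perm GolayPt}, g ∈ M24 → g • x ∈ S)
    (htr : ∀ y ∈ S, ∃ g ∈ M24, g • x = y) (hS : S.ncard = N) :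
    N * Nat.card ↥(M24 ⊓ MulAction.stabilizer (Equiv.Perm GolayPt) x) = 244823040 := by
  have horb : MulAction.orbit M24 x = S := by
    ext y
    constructor
    · rintro ⟨g, rfl⟩; exact hinv g.2
    · intro hy; obtain ⟨g, hg, he⟩ := htr y hy; exact ⟨⟨g, hg⟩, he⟩
  have h1 := MulAction.index_stabilizer M24 x
  have h3 : Nat.card (MulAction.stabilizer M24 x) =
      Nat.card ↥(M24 ⊓ MulAction.stabilizer (Equiv.Perm GolayPt) x) := by
    refine Nat.card_congr
      { toFun := fun g => ⟨(g : M24), (g : M24).2, g.2⟩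
        invFun := fun g => ⟨⟨g.1, g.2.1⟩, g.2.2⟩
        left_inv := fun g => rfl
        right_inv := fun g => rfl }
  rw [← h3, ← hS, ← horb, ← h1, Subgroup.index_mul_card, card_M24]

theorem mem_stab_of_rows {c : ℕ} (hc : good c = true) {B : List ℕ} (hB : rowOk B = true)
    (h : sameM (B.map (push c)) B = true) :
    pm c ∈ M24 ⊓ MulAction.stabilizer (Equiv.Perm GolayPt) (mset B) :=
  ⟨pm_mem hc, sameM_push (good_ok hc) (rowOk_spec hB).2 h⟩

theorem commute_of_mem_cz {g x : Equiv.Perm GolayPt} (h : x ∈ cz g) {β : Type*}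
    [MulAction (Equiv.Perm GolayPt) β] (y : β) : g • x • y = x • g • y := by
  rw [← mul_smul, ← (mem_cz.1 h).2, mul_smul]

/-! ### The fixed-point-free involution -/

theorem cent0_checks :
    ((ClassData.cent0Gens.all fun s => good s &&
      eqc (PermCode.mul 24 s ClassData.rep2_0) (PermCode.mul 24 ClassData.rep2_0 s)) &&
    witCheck ClassData.rep2_0 CentData.wit0 CentData.wit0Conj && incr (CentData.wit0Conj.map canon) &&
    Nat.beq CentData.wit0.length 18 && rowOk CentData.sext0 &&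
    (CentData.wit0.all fun w => sameM (CentData.sext0.map (push w)) CentData.sext0) &&
    (CentData.sext0.all fun m => Nat.beq (push ClassData.rep2_0 m) m) &&
    sextChunks.flatten.any (fun l => sameM l CentData.sext0) &&
    Nat.beq ((TableData.sextTab.filter fun l => l.all fun m => Nat.beq (push ClassData.rep2_0 m) m).length) 1) =
      true := by
  decide +kernel

theorem sext0_mem : mset CentData.sext0 ∈ sextets := by
  have h := cent0_checks
  simp only [Bool.and_eq_true, List.any_eq_true] at h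
  obtain ⟨l, hl, he⟩ := h.1.2
  exact tabSextets.mem_iff.2 ⟨l, hl, (sameM_iff (rowOk_spec (List.all_eq_true.1 tabSextets.ok l hl)).2
    (rowOk_spec h.1.1.1.1.2).2).1 he⟩

theorem cz_sext0 {x : Equiv.Perm GolayPt} (hx : x ∈ cz (pm ClassData.rep2_0)) :
    x • mset CentData.sext0 = mset CentData.sext0 := by
  have h := cent0_checks
  simp only [Bool.and_eq_true] at h
  have hr := good_ok rep_goods.2.1
  have hone : {S | S ∈ sextets ∧ ∀ a ∈ S, pm ClassData.rep2_0 • a = a}.ncard = 1 := by
    rw [← Nat.eq_of_beq_eq_true h.2]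
    refine ncard_tab sextets_eq sextTab_nodup
      (fun a ha b hb e => mset_inj (sextTab_ok a ha).2 (sextTab_ok b hb).2 (sextTab_ok a ha).1 (sextTab_ok b hb).1 e)
      (fun S => ∀ a ∈ S, pm ClassData.rep2_0 • a = a) _ fun l hl => ?_
    simp only [List.all_eq_true, mem_mset]
    constructor
    · intro hS m hm
      have e := hS (toSet m) ⟨m, hm, rfl⟩
      rw [← toSet_push (isPermOf_pm hr)] at e
      rw [toSet_inj (push_lt (isPermOf_pm hr) m) ((sextTab_ok l hl).1 m hm) e]
      exact Nat.beq_refl m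
    · rintro hl' _ ⟨m, hm, rfl⟩
      rw [← toSet_push (isPermOf_pm hr), Nat.eq_of_beq_eq_true (hl' m hm)]
  obtain ⟨S₀, hS⟩ := Set.ncard_eq_one.1 hone
  have hbase : mset CentData.sext0 ∈ {S | S ∈ sextets ∧ ∀ a ∈ S, pm ClassData.rep2_0 • a = a} := by
    refine ⟨sext0_mem, fun a ha => ?_⟩
    obtain ⟨m, hm, rfl⟩ := mem_mset.1 ha
    rw [← toSet_push (isPermOf_pm hr),
      Nat.eq_of_beq_eq_true (List.all_eq_true.1 h.1.1.2 m hm)]
  have himg : x • mset CentData.sext0 ∈ {S | S ∈ sextets ∧ ∀ a ∈ S, pm ClassData.rep2_0 • a = a} := by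
    refine ⟨(smul_mem_sextets (mem_cz.1 hx).1).2 hbase.1, fun a ha => ?_⟩
    obtain ⟨b, hb, rfl⟩ := Finset.mem_smul_finset.1 ha
    rw [commute_of_mem_cz hx, hbase.2 b hb]
  rw [hS, Set.mem_singleton_iff] at hbase himg
  rw [himg, hbase]

theorem card_cz_rep0 : Nat.card (cz (pm ClassData.rep2_0)) = 7680 := by
  have h := cent0_checks
  simp only [Bool.and_eq_true] at h
  have hr := good_ok rep_goods.2.1
  have hlow : 7680 ≤ Nat.card (cz (pm ClassData.rep2_0)) := by
    rw [← ClassData.cent0_card, ← card_spanPts]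
    exact Nat.card_le_card_of_injective _ (Subgroup.inclusion_injective
      (spanPts_le_cz hr h.1.1.1.1.1.1.1.1))
  have hup := card_cz_le hr h.1.1.1.1.1.1.1.2 h.1.1.1.1.1.1.2
    (H := M24 ⊓ MulAction.stabilizer (Equiv.Perm GolayPt) (mset CentData.sext0))
    (fun x hx => ⟨(mem_cz.1 hx).1, cz_sext0 hx⟩) fun w hw => by
      obtain ⟨i, hi, rfl⟩ := List.mem_iff_getElem.1 hw
      obtain ⟨hlen, hspec⟩ := witCheck_spec hr h.1.1.1.1.1.1.1.2
      exact mem_stab_of_rows (hspec i hi (hlen ▸ hi)).1 h.1.1.1.1.2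
        (List.all_eq_true.1 h.1.1.1.2 _ (List.getElem_mem hi))
  have hst := card_stab_of_orbit (S := sextets) sext0_mem (fun hg => (smul_mem_sextets hg).2 sext0_mem)
    (fun y hy => exists_smul_sextet sext0_mem hy) GolayDesign.ncard_sextets
  rw [Nat.eq_of_beq_eq_true h.1.1.1.1.1.2] at hup
  omega

/-! ### The involution with eight fixed points -/

theorem cent8_checks :
    ((ClassData.cent8Gens.all fun s => good s &&
      eqc (PermCode.mul 24 s ClassData.rep2_8) (PermCode.mul 24 ClassData.rep2_8 s)) &&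
    witCheck ClassData.rep2_8 CentData.wit8 CentData.wit8Conj && incr (CentData.wit8Conj.map canon) &&
    Nat.beq CentData.wit8.length 15 && Nat.blt CentData.octad8 16777216 && isOct CentData.octad8 &&
    (CentData.wit8.all fun w => Nat.beq (push w CentData.octad8) CentData.octad8) &&
    allLt 24 (fun j => Nat.beq (app ClassData.rep2_8 j) j == CentData.octad8.testBit j)) = true := by
  decide +kernel

theorem card_cz_rep8 : Nat.card (cz (pm ClassData.rep2_8)) = 21504 := by
  have h := cent8_checks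
  simp only [Bool.and_eq_true] at h
  obtain ⟨⟨⟨⟨⟨⟨⟨hgens, hwit⟩, hincr⟩, hlen15⟩, hlt⟩, hoct⟩, hfixo⟩, hpts⟩ := h
  have hr := good_ok rep_goods.1
  have hlow : 21504 ≤ Nat.card (cz (pm ClassData.rep2_8)) := by
    rw [← ClassData.cent8_card, ← card_spanPts]
    exact Nat.card_le_card_of_injective _ (Subgroup.inclusion_injective (spanPts_le_cz hr hgens))
  have ho : toSet CentData.octad8 ∈ octads :=
    toSet_mem_octads (by simpa using Nat.blt_eq.symm ▸ hlt) hoct
  have hfix : ∀ p, p ∈ toSet CentData.octad8 ↔ pm ClassData.rep2_8 p = p := by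
    intro p
    have h1 := allLt_spec hpts _ (bit_lt p)
    rw [isPermOf_pm hr p, beq_iff_eq] at h1
    rw [mem_toSet, ← h1, Nat.beq_eq]
    exact ⟨fun e => bit_injective e, fun e => by rw [e]⟩
  have hup := card_cz_le hr hwit hincr
    (H := M24 ⊓ MulAction.stabilizer (Equiv.Perm GolayPt) (toSet CentData.octad8))
    (fun x hx => by
      refine ⟨(mem_cz.1 hx).1, Finset.eq_of_subset_of_card_le (fun p hp => ?_)
        (by rw [Finset.card_smul_finset])⟩
      obtain ⟨q, hq, rfl⟩ := Finset.mem_smul_finset.1 hp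
      rw [hfix] at hq ⊢
      rw [← Equiv.Perm.smul_def (pm ClassData.rep2_8), commute_of_mem_cz hx, Equiv.Perm.smul_def,
        Equiv.Perm.smul_def, hq]
      rfl)
    fun w hw => by
      obtain ⟨i, hi, rfl⟩ := List.mem_iff_getElem.1 hw
      obtain ⟨hlen, hspec⟩ := witCheck_spec hr hwit
      have hg := (hspec i hi (hlen ▸ hi)).1
      refine ⟨pm_mem hg, ?_⟩
      show pm _ • toSet CentData.octad8 = toSet CentData.octad8
      rw [← toSet_push (isPermOf_pm (good_ok hg)),
        Nat.eq_of_beq_eq_true (List.all_eq_true.1 hfixo _ (List.getElem_mem hi))]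
  have hst := card_stab_of_orbit (S := octads) ho (fun hg => (M24_smul_mem_octads hg).2 ho)
    (fun y hy => exists_smul_octad ho hy) ncard_octads
  rw [Nat.eq_of_beq_eq_true hlen15] at hup
  omega

end CfsgLib.M24Elt
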