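import Cfsg.Agent.Lib.M24Elt.Basic
import Cfsg.Prelude.Def_KGroupFacts

/-!
Counting outer automorphisms of a subgroup of M24 from a generating pair `x, y`, with `x` of prime
order `p`: an automorphism is determined, up to inner ones, by a power of `x` and an orbit
representative of `⟨x⟩` on the elements of the order of `y` satisfying the relations of `(x, y)`.
-/

set_option autoImplicit false

namespace CfsgLib.M24Elt.AutBound

open Cfsg CfsgLib.Comp CfsgLib.Golay CfsgLib.M24Elt

/-! ### Words -/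

/-- The product of a word in two codes on `n` points. -/
noncomputable def evalN (n a b : ℕ) (w : List Bool) : ℕ :=
  w.foldr (fun t acc => PermCode.mul n (bif t then b else a) acc) (PermCode.one n)

/-- The product of a word in two codes on 24 points. -/
noncomputable def evalW (a b : ℕ) (w : List Bool) : ℕ := evalN 24 a b w

/-- The product of a word in two group elements. -/
def wordProd {G : Type*} [Monoid G] (a b : G) (w : List Bool) : G :=
  (w.map fun t => bif t then b else a).prod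

theorem evalN_spec {n : ℕ} (hn : n ≤ 256) {a b : ℕ} (ha : PermCode.Ok n a) (hb : PermCode.Ok n b) :
    ∀ w : List Bool, PermCode.Ok n (evalN n a b w) ∧
      PermCode.val n (evalN n a b w) = wordProd (PermCode.val n a) (PermCode.val n b) w
  | [] => ⟨PermCode.ok_one hn, PermCode.val_one hn⟩
  | t :: w => by
    obtain ⟨h1, h2⟩ := evalN_spec hn ha hb w
    have ht : PermCode.Ok n (bif t then b else a) := by cases t <;> assumption
    refine ⟨PermCode.ok_mul hn ht h1, ?_⟩
    show PermCode.val n (PermCode.mul n _ (evalN n a b w)) = _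
    rw [PermCode.val_mul hn ht h1, h2, wordProd, wordProd, List.map_cons, List.prod_cons]
    cases t <;> rfl

theorem map_wordProd {G M : Type*} [Monoid G] [Monoid M] (f : G →* M) (a b : G) (w : List Bool) :
    f (wordProd a b w) = wordProd (f a) (f b) w := by
  rw [wordProd, wordProd, map_list_prod, List.map_map]
  congr 1
  exact List.map_congr_left fun t _ => by cases t <;> rfl

theorem evalW_spec {a b : ℕ} (ha : PermCode.Ok 24 a) (hb : PermCode.Ok 24 b) (w : List Bool) :
    PermCode.Ok 24 (evalW a b w) ∧ pm (evalW a b w) = wordProd (pm a) (pm b) w := by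
  obtain ⟨h1, h2⟩ := evalN_spec (n := 24) (by norm_num) ha hb w
  refine ⟨h1, ?_⟩
  rw [pm, evalW, h2]
  exact map_wordProd toFin.symm.toMonoidHom _ _ w

/-- Whether the relation `w ^ n = 1` holds for a pair of codes. -/
noncomputable def relHolds (a b : ℕ) (r : List Bool × ℕ) : Bool := isOne (powc (evalW a b r.1) r.2)

theorem relHolds_iff {a b : ℕ} (ha : PermCode.Ok 24 a) (hb : PermCode.Ok 24 b) (r : List Bool × ℕ) :
    relHolds a b r = true ↔ wordProd (pm a) (pm b) r.1 ^ r.2 = 1 := by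
  obtain ⟨h1, h2⟩ := evalW_spec ha hb r.1
  rw [← h2, ← pm_powc h1]
  exact ⟨pm_eq_one (powc_ok h1 _), isOne_of_pm (powc_ok h1 _)⟩

/-! ### Group theoretic bound -/

variable {G : Type*} [Group G]

/-- Two automorphisms agreeing on generators are equal. -/
theorem aut_ext {x y : G} (hgen : Subgroup.closure {x, y} = ⊤) {φ ψ : MulAut G}
    (hx : φ x = ψ x) (hy : φ y = ψ y) : φ = ψ := by
  refine MulEquiv.toMonoidHom_injective (MonoidHom.eq_of_eqOn_dense hgen ?_)
  rintro z (rfl | rfl)
  · exact hx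
  · exact hy

/-- A bound for the outer automorphisms from normal forms of the images of two generators. -/
theorem card_out_le {G : Type} [Group G] [Finite G] {x y : G} (hgen : Subgroup.closure {x, y} = ⊤)
    {goods : List (G × G)}
    (hnorm : ∀ φ : MulAut G, ∃ h : G, ((MulAut.conj h * φ) x, (MulAut.conj h * φ) y) ∈ goods) :
    Nat.card (Out G) ≤ goods.length := by
  classical
  have hrep : ∀ q : Out G, ∃ i : Fin goods.length, ∃ φ : MulAut G,
      QuotientGroup.mk φ = q ∧ (φ x, φ y) = goods[i] := by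
    intro q
    obtain ⟨φ, rfl⟩ := QuotientGroup.mk_surjective q
    obtain ⟨h, hh⟩ := hnorm φ
    obtain ⟨i, hi, he⟩ := List.mem_iff_getElem.1 hh
    refine ⟨⟨i, hi⟩, MulAut.conj h * φ, ?_, he.symm⟩
    rw [QuotientGroup.mk_mul,
      (QuotientGroup.eq_one_iff (N := Inn G) (MulAut.conj h)).2 ⟨h, rfl⟩, one_mul]
  choose f g hg using hrep
  have hinj : Function.Injective f := by
    intro a b hab
    have e : g a = g b := by
      have := (hg a).2.trans ((congrArg (fun i : Fin goods.length => goods[i]) hab).trans (hg b).2.symm)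
      exact aut_ext hgen (congrArg Prod.fst this) (congrArg Prod.snd this)
    rw [← (hg a).1, ← (hg b).1, e]
  simpa [Nat.card_fin] using Nat.card_le_card_of_injective f hinj

/-- Normal forms of automorphism images from classes and relations. -/
theorem exists_normal_form {x y : G} {p : ℕ} {ks : List ℕ} {R : List G}
    {rels : List (List Bool × ℕ)} (hrels : ∀ r ∈ rels, wordProd x y r.1 ^ r.2 = 1)
    (φ : MulAut G) (hx : ∃ k ∈ ks, ∃ h : G, φ x = h * x ^ k * h⁻¹)
    (hy : ∀ g : G, (∃ h : G, g = h * φ y * h⁻¹) → ∃ r ∈ R, ∃ i < p, g = x ^ i * r * (x ^ i)⁻¹) :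
    ∃ h : G, ∃ k ∈ ks, ∃ r ∈ R, (MulAut.conj h * φ) x = x ^ k ∧ (MulAut.conj h * φ) y = r ∧
      ∀ w ∈ rels, wordProd (x ^ k) r w.1 ^ w.2 = 1 := by
  obtain ⟨k, hk, a, ha⟩ := hx
  obtain ⟨r, hr, i, -, hi⟩ := hy (a⁻¹ * φ y * a) ⟨a⁻¹, by group⟩
  refine ⟨(x ^ i)⁻¹ * a⁻¹, k, hk, r, hr, ?_⟩
  have e1 : (MulAut.conj ((x ^ i)⁻¹ * a⁻¹) * φ) x = x ^ k := by
    rw [MulAut.mul_apply, MulAut.conj_apply, ha]
    calc (x ^ i)⁻¹ * a⁻¹ * (a * x ^ k * a⁻¹) * ((x ^ i)⁻¹ * a⁻¹)⁻¹ = (x ^ i)⁻¹ * (x ^ k * x ^ i) := by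
          group
      _ = x ^ k := by rw [← pow_mul_pow_comm_aux x k i, inv_mul_cancel_left]
  have e2 : (MulAut.conj ((x ^ i)⁻¹ * a⁻¹) * φ) y = r := by
    rw [MulAut.mul_apply, MulAut.conj_apply]
    calc (x ^ i)⁻¹ * a⁻¹ * φ y * ((x ^ i)⁻¹ * a⁻¹)⁻¹ = (x ^ i)⁻¹ * (a⁻¹ * φ y * a) * x ^ i := by group
      _ = r := by rw [hi]; group
  refine ⟨e1, e2, fun w hw => ?_⟩
  rw [← e1, ← e2, ← MulEquiv.coe_toMonoidHom, ← map_wordProd, ← map_pow, hrels w hw, map_one]
where
  pow_mul_pow_comm_aux (x : G) (k i : ℕ) : x ^ i * x ^ k = x ^ k * x ^ i := by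
    rw [← pow_add, ← pow_add, add_comm]

end CfsgLib.M24Elt.AutBound
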