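import Cfsg.Agent.Lib.Comp.PermChain

/-!
Generated data: an element of M24 inducing an outer automorphism of M12.
-/

set_option autoImplicit false

namespace CfsgLib.M24Elt.AutM12

def outer : ℕ := 98080464468764508222731172427597469868135696091040908566

def outerImg : ℕ × ℕ := (369812982928083134267311604888438306770697314445672188161, 466935998605643466476010472192540028301044070810788169741)

def sep : List (ℕ × List Bool) := [
  (5, [true, false, true]),
  (7, [true, false, true]),
  (10, [true, false, true]),
  (11, [true, false]),
  (14, [true, false, true]),
  (15, [false]),
  (17, [true, false, true]),
  (19, [false, true]),
  (20, [true, false, true]),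
  (21, [true, false]),
  (22, [false, true]),
  (23, [false, true, false, false, true, false])]

end CfsgLib.M24Elt.AutM12
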