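import Cfsg.Agent.Lib.Comp.PermChain

/-!
Generated data: an element of M24 inducing an outer automorphism of M22.
-/

set_option autoImplicit false

namespace CfsgLib.M24Elt.AutM22

def outer : ℕ := 383524348352614651313760357905652146120025240087954711

def outerImg : ℕ × ℕ := (564154806901207815207971198946251395499560750902604402176, 566072678501424370336706613480094265744778619291176013056)

def sep : List (ℕ × List Bool) := [
  (0, [false]),
  (2, [true, false, false]),
  (3, [false, false, true, false]),
  (4, [true, false, false, false, false, true, false]),
  (5, [true, false]),
  (6, [false, true, false, false, false, false, true]),
  (7, [true, false, true, false, false, false, false]),
  (8, [false, true, false, false, false, false, true]),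
  (9, [false, true, false]),
  (10, [true, false]),
  (11, [false, true]),
  (12, [true]),
  (13, [true, false, false, false]),
  (14, [true]),
  (15, [false, false, true]),
  (16, [true]),
  (17, [true]),
  (18, [true]),
  (19, [false, true, false, false, false, false, true]),
  (20, [false, false, false, true]),
  (21, [false, true]),
  (22, [true]),
  (23, [false])]

def spread : List (List Bool) := [
  [],
  [false],
  [true],
  [false, false],
  [false, true],
  [false, false, false],
  [true, false, false],
  [false, false, true],
  [false, false, false, false],
  [false, true, false, false],
  [false, false, false, true],
  [false, false, false, false, false],
  [false, false, true, false, false],
  [true, false, true, false, false],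
  [false, false, false, false, true],
  [false, false, false, false, false, false],
  [false, false, false, true, false, false],
  [false, true, false, true, false, false],
  [true, false, false, false, false, true],
  [false, false, false, false, false, false, false],
  [true, false, false, false, true, false, false],
  [true, false, false, false, false, false, false, false]]

end CfsgLib.M24Elt.AutM22
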