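import Cfsg.Agent.Lib.M24Elt.AutCheck

/-!
Outer automorphisms of a subgroup of M24 induced by normalising elements, and a certificate that
restricts the permutations commuting with a given pair.
-/

set_option autoImplicit false

namespace CfsgLib.M24Elt.AutBound

open Cfsg CfsgLib.Comp CfsgLib.Golay CfsgLib.M24Elt

/-- Conjugation by a permutation mapping generators into the subgroup normalises it. -/
theorem map_conj_of_gens {G : Type*} [Group G] [Finite G] {x y g : G}
    (hx : g * x * g⁻¹ ∈ Subgroup.closure {x, y}) (hy : g * y * g⁻¹ ∈ Subgroup.closure {x, y}) :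
    (Subgroup.closure {x, y}).map (MulAut.conj g).toMonoidHom = Subgroup.closure {x, y} := by
  refine Subgroup.eq_of_le_of_card_ge ?_ (le_of_eq ?_)
  · rw [MonoidHom.map_closure, Subgroup.closure_le, Set.image_insert_eq, Set.image_singleton]
    rintro z (rfl | rfl)
    · exact hx
    · exact hy
  · exact (Subgroup.card_map_of_injective (MulAut.conj g).injective).symm

/-- A normalising element inducing no inner automorphism gives two outer classes. -/
theorem two_le_card_out {A : Type} [Group A] [Finite A] {H : Subgroup A} {g : A}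
    (hnorm : H.map (MulAut.conj g).toMonoidHom = H)
    (houter : ∀ h ∈ H, (∀ z ∈ H, h⁻¹ * g * z = z * (h⁻¹ * g)) → False) :
    2 ≤ Nat.card (Out H) := by
  let φ : MulAut H := ((MulAut.conj g).subgroupMap H).trans (MulEquiv.subgroupCongr hnorm)
  have hne : (QuotientGroup.mk φ : Out H) ≠ 1 := by
    intro e
    obtain ⟨h, hh⟩ := (QuotientGroup.eq_one_iff φ).1 e
    refine houter h h.2 fun z hz => ?_
    have e1 : (h : A) * z * (h : A)⁻¹ = g * z * g⁻¹ :=
      congrArg (fun ψ : MulAut H => ((ψ ⟨z, hz⟩ : H) : A)) hh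
    calc (h : A)⁻¹ * g * z = (h : A)⁻¹ * (g * z * g⁻¹) * g := by group
      _ = (h : A)⁻¹ * ((h : A) * z * (h : A)⁻¹) * g := by rw [e1]
      _ = z * ((h : A)⁻¹ * g) := by group
  haveI : Nontrivial (Out H) := ⟨⟨_, 1, hne⟩⟩
  exact Finite.one_lt_card

/-- A word separates the point `p0` from the listed possible image. -/
noncomputable def sepOk (x y p0 : ℕ) (s : ℕ × List Bool) : Bool :=
  Nat.beq (PermCode.get (evalW x y s.2) p0) p0 != Nat.beq (PermCode.get (evalW x y s.2) s.1) s.1

theorem sep_spec {x y p0 : ℕ} (hx : PermCode.Ok 24 x) (hy : PermCode.Ok 24 y) {s : ℕ × List Bool}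
    (h : sepOk x y p0 s = true) {u : Equiv.Perm GolayPt} (hux : u * pm x = pm x * u)
    (huy : u * pm y = pm y * u) {a : GolayPt} (ha : bit a = p0) : bit (u a) ≠ s.1 := by
  intro e
  obtain ⟨ho, he⟩ := evalW_spec hx hy s.2
  have hc : Commute u (pm (evalW x y s.2)) := by
    rw [he, wordProd]
    refine Commute.list_prod_right _ _ fun z hz => ?_
    obtain ⟨t, -, rfl⟩ := List.mem_map.1 hz
    cases t
    · exact hux
    · exact huy
  rw [sepOk] at h
  generalize evalW x y s.2 = w at ho hc he h

  have key : pm w a = a ↔ pm w (u a) = u a := by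
    have e2 : pm w (u a) = u (pm w a) := (DFunLike.congr_fun hc.eq a).symm
    rw [e2, u.injective.eq_iff]

  have h1 : (Nat.beq (PermCode.get w p0) p0) = (Nat.beq (PermCode.get w s.1) s.1) := by
    rw [Bool.eq_iff_iff, Nat.beq_eq, Nat.beq_eq, ← ha, ← e, ← bit_pm ho, ← bit_pm ho,
      bit_injective.eq_iff, bit_injective.eq_iff, key]
  rw [h1] at h
  simp at h

end CfsgLib.M24Elt.AutBound
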