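import Cfsg.Agent.Lib.M24Elt.Smul

/-!
Orbit certificates for stabilisers of octads, trios, sextets and other small families of point sets,
on the tables of octads, trios and sextets.
-/

set_option autoImplicit false

namespace CfsgLib.M24Elt

open Cfsg CfsgLib.Comp CfsgLib.Golay
open scoped Pointwise

/-- The sum of the `k`-th powers of the intersection numbers of two families of sets. -/
def pinv (k : ℕ) (B X : Finset (Finset GolayPt)) : ℕ := ∑ b ∈ B, ∑ x ∈ X, (b ∩ x).card ^ k

theorem pinv_smul (k : ℕ) (g : Equiv.Perm GolayPt) (B X : Finset (Finset GolayPt)) :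
    pinv k (g • B) (g • X) = pinv k B X := by
  simp only [pinv, Finset.smul_finset_def (s := B), Finset.smul_finset_def (s := X)]
  rw [Finset.sum_image fun a _ b _ h => MulAction.injective g h]
  refine Finset.sum_congr rfl fun b _ => ?_
  rw [Finset.sum_image fun a _ c _ h => MulAction.injective g h]
  refine Finset.sum_congr rfl fun x _ => ?_
  rw [← Finset.smul_finset_inter, Finset.card_smul_finset]

theorem pinv_of_smul (k : ℕ) {g : Equiv.Perm GolayPt} {B B' X Y : Finset (Finset GolayPt)}
    (hB : g • B = B') (hX : g • X = Y) : pinv k B' Y = pinv k B X := by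
  rw [← hB, ← hX, pinv_smul]

/-- The intersection invariant on masks. -/
noncomputable def pinvN (k : ℕ) (B X : List ℕ) : ℕ :=
  (B.map fun b => (X.map fun x => pc24 (b &&& x) ^ k).sum).sum

/-- A well-formed row of masks. -/
def rowOk (l : List ℕ) : Bool := incr l && l.all fun m => Nat.blt m 16777216

theorem rowOk_spec {l : List ℕ} (h : rowOk l = true) : incr l = true ∧ ∀ m ∈ l, m < 2 ^ 24 := by
  simp only [rowOk, Bool.and_eq_true, List.all_eq_true, Nat.blt_eq] at h
  exact ⟨h.1, fun m hm => by simpa using h.2 m hm⟩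

theorem sum_mset {l : List ℕ} (hl : rowOk l = true) (f : Finset GolayPt → ℕ) :
    ∑ x ∈ mset l, f x = (l.map fun m => f (toSet m)).sum := by
  obtain ⟨hi, hlt⟩ := rowOk_spec hl
  rw [mset, List.sum_toFinset, List.map_map]
  · rfl
  · exact List.Nodup.map_on (fun a ha b hb e => toSet_inj (hlt a ha) (hlt b hb) e)
      ((incr_pairwise hi).imp Nat.ne_of_lt)

theorem pinv_mset {k : ℕ} {B X : List ℕ} (hB : rowOk B = true) (hX : rowOk X = true) :
    pinv k (mset B) (mset X) = pinvN k B X := by
  rw [pinv, sum_mset hB, pinvN]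
  congr 1
  refine List.map_congr_left fun b _ => ?_
  rw [sum_mset hX]
  congr 1
  refine List.map_congr_left fun x _ => ?_
  rw [← toSet_and, card_toSet, pc24_eq]

/-- All the generators lie in M24 and fix the families in `fixed`. -/
noncomputable def gensFix (fixed : List (List ℕ)) (gens : List ℕ) : Bool :=
  fixed.all rowOk && gens.all fun g => good g && fixed.all fun B => sameM (B.map (push g)) B

/-- `g` fixes the families in `fixed`. -/
def Fixes (g : Equiv.Perm GolayPt) (fixed : List (List ℕ)) : Prop :=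
  ∀ B ∈ fixed, g • mset B = mset B

theorem Fixes.mul {g h : Equiv.Perm GolayPt} {fixed : List (List ℕ)} (hg : Fixes g fixed)
    (hh : Fixes h fixed) : Fixes (g * h) fixed := fun B hB => by
  rw [mul_smul, hh B hB, hg B hB]

theorem Fixes.inv {g : Equiv.Perm GolayPt} {fixed : List (List ℕ)} (hg : Fixes g fixed) :
    Fixes g⁻¹ fixed := fun B hB => by rw [inv_smul_eq_iff, hg B hB]

theorem sameM_push {c : ℕ} (hc : PermCode.Ok 24 c) {a b : List ℕ} (hb : ∀ m ∈ b, m < 2 ^ 24)
    (h : sameM (a.map (push c)) b = true) : pm c • mset a = mset b := by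
  rw [smul_mset hc]
  refine (sameM_iff (fun m hm => ?_) hb).1 h
  obtain ⟨n, -, rfl⟩ := List.mem_map.1 hm
  exact push_lt (isPermOf_pm hc) n

theorem gensFix_spec {fixed : List (List ℕ)} {gens : List ℕ} (h : gensFix fixed gens = true) {g : ℕ}
    (hg : g ∈ gens) : pm g ∈ M24 ∧ Fixes (pm g) fixed ∧ PermCode.Ok 24 g := by
  simp only [gensFix, Bool.and_eq_true, List.all_eq_true] at h
  obtain ⟨hgood, hfix⟩ := h.2 g hg
  exact ⟨pm_mem hgood, fun B hB => sameM_push (good_ok hgood) (rowOk_spec (h.1 B hB)).2 (hfix B hB),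
    good_ok hgood⟩

/-- The row with a given index in a table cut in chunks of 256. -/
noncomputable def look (chunks : List (List (List ℕ))) (i : ℕ) : List ℕ :=
  (chunks.getD (i / 256) []).getD (i % 256) []

/-- A forest in depth-first order: `(pops, g, i)` says that after dropping `pops` rows from the stack
generator `g` maps the top row to row `i`. -/
noncomputable def forestOk (gens : List ℕ) (chunks : List (List (List ℕ))) :
    List ℕ → List (ℕ × ℕ × ℕ) → Bool
  | _, [] => true
  | stack, (pops, g, i) :: rest =>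
    match stack.drop pops with
    | [] => false
    | p :: st => Nat.blt g gens.length &&
        sameM ((look chunks p).map (push (gens.getD g 0))) (look chunks i) &&
        forestOk gens chunks (i :: p :: st) rest

theorem look_lt {chunks : List (List (List ℕ))} (hok : chunks.flatten.all rowOk = true) (i : ℕ) :
    ∀ m ∈ look chunks i, m < 2 ^ 24 := by
  intro m hm
  unfold look at hm
  rcases lt_or_ge (i / 256) chunks.length with h1 | h1
  · rw [List.getD_eq_getElem _ _ h1] at hm
    rcases lt_or_ge (i % 256) (chunks[i / 256]).length with h2 | h2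
    · rw [List.getD_eq_getElem _ _ h2] at hm
      rw [List.all_eq_true] at hok
      exact (rowOk_spec (hok _ (List.mem_flatten.2 ⟨_, List.getElem_mem h1, List.getElem_mem h2⟩))).2 m hm
    · rw [List.getD_eq_default _ _ h2] at hm; simp at hm
  · rw [List.getD_eq_default _ _ h1] at hm; simp at hm

theorem forestOk_spec {fixed : List (List ℕ)} {gens : List ℕ} (hg : gensFix fixed gens = true)
    {chunks : List (List (List ℕ))} (hok : chunks.flatten.all rowOk = true) {root : List ℕ} :
    ∀ (forest : List (ℕ × ℕ × ℕ)) (stack : List ℕ),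
      (∀ i ∈ stack, ∃ g ∈ M24, Fixes g fixed ∧ g • mset root = mset (look chunks i)) →
      forestOk gens chunks stack forest = true →
      ∀ e ∈ forest, ∃ g ∈ M24, Fixes g fixed ∧ g • mset root = mset (look chunks e.2.2)
  | [], _, _, _, e, he => absurd he (by simp)
  | (pops, g, i) :: rest, stack, hstack, h, e, he => by
    simp only [forestOk] at h
    split at h
    · exact absurd h Bool.false_ne_true
    next p st hd =>
    have hsub : ∀ x ∈ p :: st, x ∈ stack := fun x hx => List.drop_subset pops stack (hd ▸ hx)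
    simp only [Bool.and_eq_true, Nat.blt_eq] at h
    obtain ⟨⟨hlt, hsame⟩, hrest⟩ := h
    rw [List.getD_eq_getElem _ _ hlt] at hsame
    obtain ⟨hm, hfix, hokg⟩ := gensFix_spec hg (List.getElem_mem hlt)
    obtain ⟨u, hu, huf, hue⟩ := hstack p (hsub p List.mem_cons_self)
    have hi : ∃ g ∈ M24, Fixes g fixed ∧ g • mset root = mset (look chunks i) :=
      ⟨pm gens[g] * u, mul_mem hm hu, hfix.mul huf, by
        rw [mul_smul, hue, sameM_push hokg (look_lt hok i) hsame]⟩
    rcases List.mem_cons.1 he with rfl | he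
    · exact hi
    · refine forestOk_spec hg hok rest (i :: p :: st) (fun x hx => ?_) hrest e he
      rcases List.mem_cons.1 hx with rfl | hx
      · exact hi
      · exact hstack x (hsub x hx)

/-- The mask of a list of indices. -/
noncomputable def idxMask (l : List ℕ) : ℕ := l.foldr (fun i acc => Nat.lor (Nat.pow 2 i) acc) 0

theorem testBit_idxMask : ∀ {l : List ℕ} {x : ℕ}, (idxMask l).testBit x = true → x ∈ l
  | [], x, h => by simp [idxMask] at h
  | i :: l, x, h => by
    change (2 ^ i ||| idxMask l).testBit x = true at h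
    rw [Nat.testBit_or, Bool.or_eq_true, Nat.testBit_two_pow, decide_eq_true_eq] at h
    rcases h with h | h
    · exact h ▸ List.mem_cons_self
    · exact List.mem_cons_of_mem _ (testBit_idxMask h)

/-- Every row with property `q` has its index in `K`. -/
noncomputable def classAll (chunks : List (List (List ℕ))) (q : List ℕ → Bool) (K : ℕ) : Bool :=
  chunks.zipIdx.all fun c =>
    Nat.ble c.1.length 256 && c.1.zipIdx.all fun r => !q r.1 || K.testBit (256 * c.2 + r.2)

/-- The orbit certificate. -/
noncomputable def orbitOk (fixed : List (List ℕ)) (gens : List ℕ) (chunks : List (List (List ℕ)))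
    (q : List ℕ → Bool) (root : ℕ) (forest : List (ℕ × ℕ × ℕ)) (K : ℕ) : Bool :=
  gensFix fixed gens && forestOk gens chunks [root] forest &&
    Nat.beq (idxMask (root :: forest.map fun e => e.2.2)) K && classAll chunks q K

/-- The rows with property `q` are equivalent under the elements fixing `fixed`. -/
theorem exists_map_of_orbitOk {fixed : List (List ℕ)} {gens : List ℕ}
    {chunks : List (List (List ℕ))} {q : List ℕ → Bool} {root : ℕ} {forest : List (ℕ × ℕ × ℕ)}
    {K : ℕ} (hok : chunks.flatten.all rowOk = true)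
    (h : orbitOk fixed gens chunks q root forest K = true) {r r' : List ℕ}
    (hr : r ∈ chunks.flatten) (hq : q r = true) (hr' : r' ∈ chunks.flatten) (hq' : q r' = true) :
    ∃ g ∈ M24, Fixes g fixed ∧ g • mset r = mset r' := by
  simp only [orbitOk, Bool.and_eq_true, Nat.beq_eq] at h
  obtain ⟨⟨⟨hg, hf⟩, hK⟩, hc⟩ := h
  have hroot : ∃ g ∈ M24, Fixes g fixed ∧ g • mset (look chunks root) = mset (look chunks root) :=
    ⟨1, one_mem _, fun _ _ => one_smul _ _, one_smul _ _⟩
  have key : ∀ r ∈ chunks.flatten, q r = true →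
      ∃ g ∈ M24, Fixes g fixed ∧ g • mset (look chunks root) = mset r := by
    intro r hr hq
    obtain ⟨ch, hch, hrch⟩ := List.mem_flatten.1 hr
    obtain ⟨a, ha, rfl⟩ := List.mem_iff_getElem.1 hch
    obtain ⟨b, hb, rfl⟩ := List.mem_iff_getElem.1 hrch
    simp only [classAll, List.all_eq_true, Bool.and_eq_true, Nat.ble_eq] at hc
    obtain ⟨hlen, hin⟩ := hc (chunks[a], a) (List.mem_zipIdx_iff_getElem?.2 (by simp [ha]))
    have := hin (chunks[a][b], b) (List.mem_zipIdx_iff_getElem?.2 (by simp [hb]))
    rw [hq, Bool.not_true, Bool.false_or, ← hK] at this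
    have hb' : b < 256 := lt_of_lt_of_le hb hlen
    have hl : look chunks (256 * a + b) = chunks[a][b] := by
      rw [look, show (256 * a + b) / 256 = a by omega, show (256 * a + b) % 256 = b by omega,
        List.getD_eq_getElem _ _ ha, List.getD_eq_getElem _ _ hb]
    rw [← hl]
    rcases List.mem_cons.1 (testBit_idxMask this) with e | e
    · rw [e]; exact hroot
    · obtain ⟨x, hx, hxe⟩ := List.mem_map.1 e
      rw [← hxe]
      exact forestOk_spec hg hok forest [root]
        (fun i hi => by rw [List.mem_singleton] at hi; rw [hi]; exact hroot) hf x hx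
  obtain ⟨g, hgm, hgf, hge⟩ := key r hr hq
  obtain ⟨g', hgm', hgf', hge'⟩ := key r' hr' hq'
  exact ⟨g' * g⁻¹, mul_mem hgm' (inv_mem hgm), hgf'.mul hgf.inv, by
    rw [← hge, ← hge', mul_smul, inv_smul_smul]⟩

/-! ### Tabled sets -/

/-- An M24-invariant set listed by a table. -/
structure TabOk (S : Set (Finset (Finset GolayPt))) (chunks : List (List (List ℕ))) : Prop where
  eq : S = ↑((chunks.flatten.map mset).toFinset)
  nodup : chunks.flatten.Nodup
  ok : chunks.flatten.all rowOk = true
  smul : ∀ {g : Equiv.Perm GolayPt}, g ∈ M24 → ∀ X, g • X ∈ S ↔ X ∈ S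

theorem TabOk.mem_iff {S : Set (Finset (Finset GolayPt))} {chunks : List (List (List ℕ))}
    (hT : TabOk S chunks) {X : Finset (Finset GolayPt)} :
    X ∈ S ↔ ∃ r ∈ chunks.flatten, mset r = X := by
  rw [hT.eq]; simp only [Finset.mem_coe, List.mem_toFinset, List.mem_map]

theorem TabOk.inj {S : Set (Finset (Finset GolayPt))} {chunks : List (List (List ℕ))}
    (hT : TabOk S chunks) : ∀ a ∈ chunks.flatten, ∀ b ∈ chunks.flatten, mset a = mset b → a = b := by
  intro a ha b hb e
  have h := hT.ok
  rw [List.all_eq_true] at h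
  exact mset_inj (rowOk_spec (h a ha)).1 (rowOk_spec (h b hb)).1 (rowOk_spec (h a ha)).2
    (rowOk_spec (h b hb)).2 e

theorem TabOk.ncard_inv {S : Set (Finset (Finset GolayPt))} {chunks : List (List (List ℕ))}
    (hT : TabOk S chunks) {k v : ℕ} {B : List ℕ} (hB : rowOk B = true) :
    {X | X ∈ S ∧ pinv k (mset B) X = v}.ncard =
      (chunks.flatten.filter fun r => Nat.beq (pinvN k B r) v).length :=
  ncard_tab hT.eq hT.nodup hT.inj (fun X => pinv k (mset B) X = v) _ fun r hr => by
    rw [pinv_mset hB (List.all_eq_true.1 hT.ok r hr), Nat.beq_eq]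

/-- A class certificate: the rows with invariant `v` form one orbit of size `N`. -/
noncomputable def classOk (k : ℕ) (B : List ℕ) (gens : List ℕ) (chunks : List (List (List ℕ)))
    (v root : ℕ) (forest : List (ℕ × ℕ × ℕ)) (K N : ℕ) : Bool :=
  rowOk B && orbitOk [B] gens chunks (fun r => Nat.beq (pinvN k B r) v) root forest K &&
    Nat.beq (chunks.flatten.filter fun r => Nat.beq (pinvN k B r) v).length N && Nat.blt 0 N

theorem exists_map_class {S : Set (Finset (Finset GolayPt))} {chunks : List (List (List ℕ))}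
    (hT : TabOk S chunks) {k v root K N : ℕ} {B gens : List ℕ} {forest : List (ℕ × ℕ × ℕ)}
    (h : classOk k B gens chunks v root forest K N = true) {u : Equiv.Perm GolayPt} (hu : u ∈ M24)
    {B' : Finset (Finset GolayPt)} (hB' : u • mset B = B') {X Y : Finset (Finset GolayPt)}
    (hX : X ∈ S) (hXv : pinv k B' X = v) (hY : Y ∈ S) (hYv : pinv k B' Y = v) :
    ∃ g ∈ M24, g • B' = B' ∧ g • X = Y := by
  simp only [classOk, Bool.and_eq_true] at h
  obtain ⟨⟨⟨hB, horb⟩, -⟩, -⟩ := h
  obtain ⟨r, hr, hre⟩ := hT.mem_iff.1 ((hT.smul (inv_mem hu) X).2 hX)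
  obtain ⟨r', hr', hre'⟩ := hT.mem_iff.1 ((hT.smul (inv_mem hu) Y).2 hY)
  have hq : ∀ {Z : Finset (Finset GolayPt)} {r : List ℕ}, r ∈ chunks.flatten → mset r = u⁻¹ • Z →
      pinv k B' Z = v → Nat.beq (pinvN k B r) v = true := by
    intro Z r hr hre hZ
    rw [Nat.beq_eq, ← pinv_mset hB (List.all_eq_true.1 hT.ok r hr), hre, ← hZ,
      ← pinv_of_smul k hB' (smul_inv_smul u Z)]
  obtain ⟨g, hg, hgf, hge⟩ :=
    exists_map_of_orbitOk hT.ok horb hr (hq hr hre hXv) hr' (hq hr' hre' hYv)
  refine ⟨u * g * u⁻¹, mul_mem (mul_mem hu hg) (inv_mem hu), ?_, ?_⟩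
  · rw [← hB', mul_smul, mul_smul, inv_smul_smul, hgf B List.mem_cons_self]
  · rw [mul_smul, mul_smul, ← hre, hge, hre', smul_inv_smul]

/-- The class of an invariant value is an orbit of the stabiliser, of the certified size. -/
theorem exists_orbit {S : Set (Finset (Finset GolayPt))} {chunks : List (List (List ℕ))}
    (hT : TabOk S chunks) {k v root K N : ℕ} {B gens : List ℕ} {forest : List (ℕ × ℕ × ℕ)}
    (h : classOk k B gens chunks v root forest K N = true) {u : Equiv.Perm GolayPt} (hu : u ∈ M24)
    {B' : Finset (Finset GolayPt)} (hB' : u • mset B = B') :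
    ∃ X ∈ S, MulAction.orbit (MulAction.stabilizer M24 B') X = {Y | Y ∈ S ∧ pinv k B' Y = v} ∧
      (MulAction.orbit (MulAction.stabilizer M24 B') X).ncard = N := by
  have h' := h
  simp only [classOk, Bool.and_eq_true, Nat.beq_eq, Nat.blt_eq] at h'
  obtain ⟨⟨⟨hB, -⟩, hN⟩, hpos⟩ := h'
  have hclass : {Y | Y ∈ S ∧ pinv k B' Y = v}.ncard = N := by
    rw [← hN, ← hT.ncard_inv hB,
      ← Set.ncard_image_of_injective {Y | Y ∈ S ∧ pinv k (mset B) Y = v} (MulAction.injective u)]
    congr 1
    ext Y
    constructor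
    · rintro ⟨hY, hYv⟩
      refine ⟨u⁻¹ • Y, ⟨(hT.smul (inv_mem hu) Y).2 hY, ?_⟩, smul_inv_smul u Y⟩
      rw [← hYv, pinv_of_smul k hB' (smul_inv_smul u Y)]
    · rintro ⟨Z, ⟨hZ, hZv⟩, rfl⟩
      exact ⟨(hT.smul hu Z).2 hZ, (pinv_of_smul k hB' rfl).trans hZv⟩
  obtain ⟨X, hX, hXv⟩ : {Y | Y ∈ S ∧ pinv k B' Y = v}.Nonempty :=
    Set.nonempty_of_ncard_ne_zero (by omega)
  have horb : MulAction.orbit (MulAction.stabilizer M24 B') X = {Y | Y ∈ S ∧ pinv k B' Y = v} := by
    ext Y
    constructor
    · rintro ⟨⟨⟨g, hg⟩, hs⟩, rfl⟩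
      have hs' : g • B' = B' := hs
      exact ⟨(hT.smul hg X).2 hX, (pinv_of_smul k hs' rfl).trans hXv⟩
    · rintro ⟨hY, hYv⟩
      obtain ⟨g, hg, hgB, hgX⟩ := exists_map_class hT h hu hB' hX hXv hY hYv
      exact ⟨⟨⟨g, hg⟩, hgB⟩, hgX⟩
  exact ⟨X, hX, horb, horb ▸ hclass⟩

/-- Every row takes one of the listed values. -/
noncomputable def coverOk (k : ℕ) (B : List ℕ) (chunks : List (List (List ℕ))) (vals : List ℕ) : Bool :=
  rowOk B && chunks.flatten.all fun r => vals.any (Nat.beq (pinvN k B r))

theorem pinv_cases {S : Set (Finset (Finset GolayPt))} {chunks : List (List (List ℕ))}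
    (hT : TabOk S chunks) {k : ℕ} {B vals : List ℕ} (h : coverOk k B chunks vals = true)
    {u : Equiv.Perm GolayPt} (hu : u ∈ M24) {B' : Finset (Finset GolayPt)} (hB' : u • mset B = B')
    {X : Finset (Finset GolayPt)} (hX : X ∈ S) : pinv k B' X ∈ vals := by
  simp only [coverOk, Bool.and_eq_true, List.all_eq_true, List.any_eq_true] at h
  obtain ⟨hB, hall⟩ := h
  obtain ⟨r, hr, hre⟩ := hT.mem_iff.1 ((hT.smul (inv_mem hu) X).2 hX)
  obtain ⟨v, hv, hve⟩ := hall r hr
  rw [pinv_of_smul k hB' (smul_inv_smul u X), ← hre, pinv_mset hB (List.all_eq_true.1 hT.ok r hr),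
    Nat.eq_of_beq_eq_true hve]
  exact hv

/-! ### The three tables -/

def trioChunks : List (List (List ℕ)) :=
  [TableData.trioTab0, TableData.trioTab1, TableData.trioTab2, TableData.trioTab3, TableData.trioTab4,
   TableData.trioTab5, TableData.trioTab6, TableData.trioTab7, TableData.trioTab8, TableData.trioTab9,
   TableData.trioTab10, TableData.trioTab11, TableData.trioTab12, TableData.trioTab13, TableData.trioTab14]

def sextChunks : List (List (List ℕ)) :=
  [TableData.sextTab0, TableData.sextTab1, TableData.sextTab2, TableData.sextTab3, TableData.sextTab4,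
   TableData.sextTab5, TableData.sextTab6]

/-- The octads as rows with one mask. -/
def octChunks : List (List (List ℕ)) :=
  [TableData.octTab0.map fun m => [m], TableData.octTab1.map fun m => [m],
   TableData.octTab2.map fun m => [m]]

theorem trioChunks_flatten : trioChunks.flatten = TableData.trioTab := by
  simp only [trioChunks, TableData.trioTab, List.flatten_cons, List.flatten_nil, List.append_nil,
    List.append_assoc]

theorem sextChunks_flatten : sextChunks.flatten = TableData.sextTab := by
  simp only [sextChunks, TableData.sextTab, List.flatten_cons, List.flatten_nil, List.append_nil,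
    List.append_assoc]

theorem octChunks_flatten : octChunks.flatten = TableData.octTab.map fun m => [m] := by
  simp only [octChunks, TableData.octTab, List.flatten_cons, List.flatten_nil, List.append_nil,
    List.append_assoc, List.map_append]

theorem rowOk_iff {l : List ℕ} : rowOk l = true ↔ (∀ m ∈ l, m < 2 ^ 24) ∧ incr l = true :=
  ⟨fun h => ⟨(rowOk_spec h).2, (rowOk_spec h).1⟩, fun h => by
    simp only [rowOk, Bool.and_eq_true, List.all_eq_true, Nat.blt_eq]
    exact ⟨h.2, fun m hm => by simpa using h.1 m hm⟩⟩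

theorem tabTrios : TabOk trios trioChunks where
  eq := by rw [trioChunks_flatten]; exact trios_eq
  nodup := by rw [trioChunks_flatten]; exact trioTab_nodup
  ok := by
    rw [trioChunks_flatten, List.all_eq_true]
    exact fun l hl => rowOk_iff.2 (trioTab_ok l hl)
  smul := fun hg _ => smul_mem_trios hg

theorem tabSextets : TabOk sextets sextChunks where
  eq := by rw [sextChunks_flatten]; exact sextets_eq
  nodup := by rw [sextChunks_flatten]; exact sextTab_nodup
  ok := by
    rw [sextChunks_flatten, List.all_eq_true]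
    exact fun l hl => rowOk_iff.2 (sextTab_ok l hl)
  smul := fun hg _ => smul_mem_sextets hg

/-- The singletons of octads. -/
def octSing : Set (Finset (Finset GolayPt)) := {X | ∃ o ∈ octads, X = {o}}

theorem mset_singleton (m : ℕ) : mset [m] = {toSet m} := by simp [mset]

theorem tabOctads : TabOk octSing octChunks where
  eq := by
    ext X
    rw [octChunks_flatten, octSing, octads_eq]
    simp only [Set.mem_ofPred_eq, Finset.mem_coe, List.mem_toFinset, List.mem_map]
    constructor
    · rintro ⟨_, ⟨m, hm, rfl⟩, rfl⟩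
      exact ⟨[m], ⟨m, hm, rfl⟩, mset_singleton m⟩
    · rintro ⟨_, ⟨m, hm, rfl⟩, rfl⟩
      exact ⟨toSet m, ⟨m, hm, rfl⟩, mset_singleton m⟩
  nodup := by
    rw [octChunks_flatten]
    exact octTab_nodup.map fun a b h => by simpa using h
  ok := by
    rw [octChunks_flatten, List.all_eq_true]
    intro l hl
    obtain ⟨m, hm, rfl⟩ := List.mem_map.1 hl
    exact rowOk_iff.2 ⟨fun n hn => by rw [List.mem_singleton] at hn; exact hn ▸ octTab_lt m hm, rfl⟩
  smul := by
    intro g hg X
    constructor
    · rintro ⟨o, ho, he⟩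
      refine ⟨g⁻¹ • o, (M24_smul_mem_octads (inv_mem hg)).2 ho, ?_⟩
      rw [← inv_smul_smul g X, he, Finset.smul_finset_singleton]
    · rintro ⟨o, ho, rfl⟩
      exact ⟨g • o, (M24_smul_mem_octads hg).2 ho, Finset.smul_finset_singleton _⟩

theorem singleton_mem_octSing {o : Finset GolayPt} (ho : o ∈ octads) : {o} ∈ octSing := ⟨o, ho, rfl⟩

theorem stabilizer_singleton (o : Finset GolayPt) :
    MulAction.stabilizer M24 ({o} : Finset (Finset GolayPt)) = MulAction.stabilizer M24 o := by
  ext g
  simp only [MulAction.mem_stabilizer_iff, Finset.smul_finset_singleton, Finset.singleton_inj]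

theorem orbit_singleton_eq {H : Subgroup M24} (o : Finset GolayPt) :
    MulAction.orbit H ({o} : Finset (Finset GolayPt)) =
      (fun x => ({x} : Finset (Finset GolayPt))) '' MulAction.orbit H o := by
  ext X
  simp only [MulAction.mem_orbit_iff, Set.mem_image, Finset.smul_finset_singleton]
  constructor
  · rintro ⟨g, rfl⟩; exact ⟨g • o, ⟨g, rfl⟩, rfl⟩
  · rintro ⟨_, ⟨g, rfl⟩, rfl⟩; exact ⟨g, rfl⟩

theorem exists_orbit_octads {k v root K N : ℕ} {B gens : List ℕ} {forest : List (ℕ × ℕ × ℕ)}
    (h : classOk k B gens octChunks v root forest K N = true) {u : Equiv.Perm GolayPt} (hu : u ∈ M24)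
    {B' : Finset (Finset GolayPt)} (hB' : u • mset B = B') :
    ∃ o ∈ octads, MulAction.orbit (MulAction.stabilizer M24 B') o =
        {o' | o' ∈ octads ∧ pinv k B' {o'} = v} ∧
      (MulAction.orbit (MulAction.stabilizer M24 B') o).ncard = N := by
  obtain ⟨_, ⟨o, ho, rfl⟩, horb, hn⟩ := exists_orbit tabOctads h hu hB'
  rw [orbit_singleton_eq] at horb hn
  rw [Set.ncard_image_of_injective _ (fun a b e => Finset.singleton_injective e)] at hn
  refine ⟨o, ho, ?_, hn⟩
  ext x
  have hx := Set.ext_iff.1 horb {x}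
  rw [Set.mem_image] at hx
  constructor
  · intro h'
    obtain ⟨⟨y, hy, e⟩, hv⟩ := hx.1 ⟨x, h', rfl⟩
    exact ⟨Finset.singleton_injective e ▸ hy, hv⟩
  · rintro ⟨h1, h2⟩
    obtain ⟨y, hy, e⟩ := hx.2 ⟨singleton_mem_octSing h1, h2⟩
    exact Finset.singleton_injective e ▸ hy

end CfsgLib.M24Elt
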