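import Mathlib
import Cfsg.Agent.Lib.M24Elt.Classes
import Cfsg.Agent.Lib.Golay.Perm
import Cfsg.Agent.Lib.Golay.M24

/-! The fixed point sets of the involutions of M24. -/

set_option autoImplicit false

namespace CfsgLib.M24InvolutionFix

open Cfsg CfsgLib.M24Elt CfsgLib.Comp CfsgLib.Golay
open scoped Pointwise

theorem fix_check : (comb 186 == 1327290 && pc24 1327290 == 8 && (List.range 24).all fun i =>
    Nat.testBit 1327290 i == Nat.beq (PermCode.get ClassData.rep2_8 i) i) = true := by decide +kernel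

theorem rep_fix_octad :
    (Finset.univ.filter fun p => pm ClassData.rep2_8 p = p) ∈ octads := by
  have h := fix_check
  simp only [Bool.and_eq_true, beq_iff_eq, List.all_eq_true, List.mem_range] at h
  obtain ⟨⟨h1, h2⟩, h3⟩ := h
  refine mem_wordsOfWeight_iff.2 ⟨186, by norm_num, by rw [h1, ← pc24_eq]; exact h2, ?_⟩
  rw [h1]
  ext p
  rw [mem_toSet, Finset.mem_filter, h3 _ (bit_lt p)]
  have hb := bit_pm (good_ok rep_goods.1) p
  refine ⟨fun h => ⟨Finset.mem_univ _, bit_injective ?_⟩, fun h => ?_⟩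
  · rw [hb]; exact Nat.eq_of_beq_eq_true h
  · have h' := h.2
    rw [← hb, h', Nat.beq_refl]

theorem fix_conj (u g : Equiv.Perm GolayPt) :
    (Finset.univ.filter fun p => (u * g * u⁻¹) p = p) = u • (Finset.univ.filter fun p => g p = p) := by
  ext p
  rw [Finset.mem_filter, ← Finset.inv_smul_mem_iff, Finset.mem_filter]
  simp only [Finset.mem_univ, true_and, Equiv.Perm.smul_def, Equiv.Perm.mul_apply]
  exact ⟨fun h => by
    conv_rhs => rw [← h]
    simp, fun h => by rw [h]; simp⟩

theorem fpf_iff (g : Equiv.Perm GolayPt) : fixCard g = 0 ↔ ∀ p, g p ≠ p := by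
  simp [fixCard, Finset.filter_eq_empty_iff]

end CfsgLib.M24InvolutionFix
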