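import Cfsg.Agent.Lib.M24Elt.Forest
import Cfsg.Agent.Lib.M24Elt.Orbit.OctOct
import Cfsg.Agent.Lib.GolayDesign.Octads

/-!
Pairs of octads: M24 has one orbit for each intersection number.
-/

set_option autoImplicit false

namespace CfsgLib.M24Elt

open Cfsg CfsgLib.Comp CfsgLib.Golay
open scoped Pointwise

theorem pinv_pair (o o' : Finset GolayPt) : pinv 2 {o} {o'} = (o ∩ o').card ^ 2 := by
  simp [pinv]

theorem exists_u_oct {o : Finset GolayPt} (ho : o ∈ octads) : ∃ u ∈ M24, u • mset [5279] = {o} := by
  obtain ⟨u, hu, he⟩ := exists_smul_octad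
    (toSet_mem_octads (m := 5279) (by norm_num) (by decide +kernel)) ho
  exact ⟨u, hu, by rw [mset_singleton, Finset.smul_finset_singleton, he]⟩

/-- M24 is transitive on ordered pairs of octads with a given intersection number. -/
theorem exists_map_octad_pair {o o₁ o₂ : Finset GolayPt} (ho : o ∈ octads) (h₁ : o₁ ∈ octads)
    (h₂ : o₂ ∈ octads) (h : (o ∩ o₁).card = (o ∩ o₂).card) :
    ∃ g ∈ M24, g • o = o ∧ g • o₁ = o₂ := by
  obtain ⟨u, hu, he⟩ := exists_u_oct ho
  have hv : pinv 2 {o} {o₂} = pinv 2 {o} {o₁} := by rw [pinv_pair, pinv_pair, h]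
  have hc := pinv_cases tabOctads octOct_cover hu he (singleton_mem_octSing h₁)
  simp only [List.mem_cons, List.not_mem_nil, or_false] at hc
  have key : ∀ {v root K N : ℕ} {gens : List ℕ} {forest : List (ℕ × ℕ × ℕ)},
      classOk 2 octOctBase gens octChunks v root forest K N = true → pinv 2 {o} {o₁} = v →
      ∃ g ∈ M24, g • o = o ∧ g • o₁ = o₂ := by
    intro v root K N gens forest hok hv₁
    obtain ⟨g, hg, hgB, hgX⟩ := exists_map_class tabOctads hok hu he (singleton_mem_octSing h₁) hv₁
      (singleton_mem_octSing h₂) (hv.trans hv₁)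
    rw [Finset.smul_finset_singleton, Finset.singleton_inj] at hgB hgX
    exact ⟨g, hg, hgB, hgX⟩
  rcases hc with e | e | e | e
  · exact key octOct_class64 e
  · exact key octOct_class0 e
  · exact key octOct_class16 e
  · exact key octOct_class4 e

/-- Any property of a pair of octads invariant under M24 holds for all pairs with the same
intersection number as soon as it holds for one pair. -/
theorem of_same_inter {P : Finset GolayPt → Finset GolayPt → Prop}
    (hP : ∀ g ∈ M24, ∀ a b, P a b → P (g • a) (g • b)) {a b o o' : Finset GolayPt}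
    (ha : a ∈ octads) (hb : b ∈ octads) (ho : o ∈ octads) (ho' : o' ∈ octads)
    (h : (a ∩ b).card = (o ∩ o').card) (hab : P a b) : P o o' := by
  obtain ⟨u, hu, rfl⟩ := exists_smul_octad ha ho
  obtain ⟨g, hg, hg1, hg2⟩ := exists_map_octad_pair ho ((M24_smul_mem_octads hu).2 hb) ho'
    (by rw [← Finset.smul_finset_inter, Finset.card_smul_finset, h])
  have := hP g hg _ _ (hP u hu a b hab)
  rwa [hg1, hg2] at this

/-- Orbit–stabiliser inside a stabiliser. -/
theorem orbit_mul_card_inf {G α β : Type*} [Group G] [MulAction G α] [MulAction G β] (a : α) (b : β) :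
    (MulAction.orbit (MulAction.stabilizer G a) b).ncard *
      Nat.card ↥(MulAction.stabilizer G a ⊓ MulAction.stabilizer G b) =
      Nat.card ↥(MulAction.stabilizer G a) := by
  have h1 : MulAction.stabilizer (MulAction.stabilizer G a) b =
      (MulAction.stabilizer G b).subgroupOf (MulAction.stabilizer G a) := by
    ext g; exact Iff.rfl
  rw [← MulAction.index_stabilizer, h1, ← Subgroup.index_mul_card
    ((MulAction.stabilizer G b).subgroupOf (MulAction.stabilizer G a))]
  congr 1
  rw [inf_comm, ← Subgroup.inf_subgroupOf_right (MulAction.stabilizer G b)]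
  exact Nat.card_congr (Subgroup.subgroupOfEquivOfLe inf_le_right).toEquiv.symm

theorem card_stab_octad {o : Finset GolayPt} (ho : o ∈ octads) :
    Nat.card ↥(MulAction.stabilizer M24 o) = 322560 := by
  have horb : MulAction.orbit M24 o = octads := by
    ext x
    constructor
    · rintro ⟨g, rfl⟩
      exact (M24_smul_mem_octads g.2).2 ho
    · intro hx
      obtain ⟨g, hg, he⟩ := exists_smul_octad ho hx
      exact ⟨⟨g, hg⟩, he⟩
  have h := MulAction.index_stabilizer M24 o
  rw [horb, ncard_octads] at h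
  have h2 := (MulAction.stabilizer M24 o).index_mul_card
  rw [h, card_M24] at h2
  omega

theorem orbit_octad_pair {o o' : Finset GolayPt} (ho : o ∈ octads) (ho' : o' ∈ octads) :
    MulAction.orbit (MulAction.stabilizer M24 o) o' =
      {x | x ∈ octads ∧ (o ∩ x).card = (o ∩ o').card} := by
  ext x
  constructor
  · rintro ⟨⟨⟨g, hg⟩, hs⟩, rfl⟩
    have hs' : g • o = o := hs
    refine ⟨(M24_smul_mem_octads hg).2 ho', ?_⟩
    show (o ∩ g • o').card = _
    calc (o ∩ g • o').card = (g • o ∩ g • o').card := congrArg (fun z => (z ∩ g • o').card) hs'.symm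
      _ = _ := by rw [← Finset.smul_finset_inter, Finset.card_smul_finset]
  · rintro ⟨hx, he⟩
    obtain ⟨g, hg, hg1, hg2⟩ := exists_map_octad_pair ho ho' hx he.symm
    exact ⟨⟨⟨g, hg⟩, hg1⟩, hg2⟩

theorem ncard_octads_meeting {o : Finset GolayPt} (ho : o ∈ octads) {c : ℕ} {root K N : ℕ}
    {gens : List ℕ} {forest : List (ℕ × ℕ × ℕ)}
    (h : classOk 2 octOctBase gens octChunks (c ^ 2) root forest K N = true) :
    {x | x ∈ octads ∧ (o ∩ x).card = c}.ncard = N := by
  obtain ⟨u, hu, he⟩ := exists_u_oct ho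
  obtain ⟨x, hx, horb, hn⟩ := exists_orbit_octads h hu he
  rw [horb] at hn
  rw [← hn]
  congr 1
  ext y
  simp only [Set.mem_ofPred_eq, pinv_pair]
  exact and_congr_right fun _ =>
    ⟨fun e => by rw [e], fun e => Nat.pow_left_injective (by norm_num) e⟩

end CfsgLib.M24Elt
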