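import Cfsg.Agent.Lib.M24Elt.SixPoints

/-!
Witness codes for six-point sets (written by a script).
-/

set_option autoImplicit false
set_option maxRecDepth 100000

namespace CfsgLib.M24Elt

def fixFiveIn : List ℕ := [565399569250201788234129054762078219177298903141007360256,
  564726883948720960449765566736387174997261421752508088576,
  565881098935318516305148776170340669664852439284001669376]

def fixFiveOut : List ℕ := [566073426779046459040877649791461066728553822781039575296,
  565785699438822305500986242421248837291310100537984286976,
  565782326338803695699145268760586138665850555630404894976,
  565685792648485468331498721340437743820357305959352238336,
  565875485364529451076301074922745513152199018463287705856,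
  565881098935318516305148776170340669664852439284001669376,
  564729499939867330569195581326103148337091745631728435456,
  564726883948720960449765566736387174997261421752508088576,
  564345607327357977813676611932207600074049982339553034496,
  564921063446671350609951762170202485597316245723176632576,
  565205769725840036694602927742369884446872112412668068096,
  565019081891280459496202146300089130457280655736583618816,
  565978006712811190384577552928446206662672319317842985216,
  565399569250201788234129054762078219177298903141007360256,
  564632225376465753749794402987096277983891518147136717056,
  565207270733603257451010494214394086280868451865872957696]

def sixIn : List ℕ := [23, 0, 1, 2, 3, 5]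

def rotInCode : ℕ := 774505306333614614704878256382518841575929395722519041

def swapInCode : ℕ := 1248924848560876458585944892779743099215309372790014231

def rotIn : List ℕ := [0, 1, 2, 3, 5, 23]

def swapIn : List ℕ := [0, 23, 1, 2, 3, 5]

def sixOut : List ℕ := [23, 0, 1, 2, 3, 4]

def rotOutCode : ℕ := 1348439945085182494047586341804693381295612188269150721

def swapOutCode : ℕ := 1248175075296025066800350103977904442342712906340237591

def rotOut : List ℕ := [0, 1, 2, 3, 4, 23]

def swapOut : List ℕ := [0, 23, 1, 2, 3, 4]

end CfsgLib.M24Elt
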