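import Cfsg.Agent.Lib.M24Elt.Basic
import Cfsg.Agent.Lib.Golay.Mathieu
import Mathlib.GroupTheory.Perm.Closure
import Mathlib.GroupTheory.Perm.Cycle.Type
import Mathlib.GroupTheory.Perm.Fin
import Mathlib.Logic.Equiv.Fin.Rotate

/-!
Groups inducing the symmetric group on six marked points.
-/

set_option autoImplicit false

namespace CfsgLib.M24Elt

open Cfsg CfsgLib.Comp CfsgLib.Golay

theorem closure_rotate_swap :
    Subgroup.closure ({finRotate 6, Equiv.swap 0 1} : Set (Equiv.Perm (Fin 6))) = ⊤ := by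
  have h := Equiv.Perm.closure_cycle_adjacent_swap (σ := finRotate 6)
    (isCycle_finRotate (n := 4)) (support_finRotate (n := 4)) (0 : Fin 6)
  have e : finRotate 6 0 = 1 := by decide +kernel
  rwa [e] at h

/-- A subgroup of M24 permuting six points and inducing a six-cycle and a transposition induces all
permutations of them. -/
theorem exists_hom_six {K : Subgroup M24} {L : Fin 6 → GolayPt} (hL : Function.Injective L)
    (hinv : ∀ g ∈ K, ∀ i, ∃ j, ((g : M24) : Equiv.Perm GolayPt) (L i) = L j)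
    (hrot : ∃ g ∈ K, ∀ i, ((g : M24) : Equiv.Perm GolayPt) (L i) = L (finRotate 6 i))
    (hswap : ∃ g ∈ K, ∀ i, ((g : M24) : Equiv.Perm GolayPt) (L i) = L (Equiv.swap 0 1 i)) :
    ∃ f : K →* Equiv.Perm (Fin 6), Function.Surjective f ∧
      ∀ (g : K) (i : Fin 6), ((g : M24) : Equiv.Perm GolayPt) (L i) = L (f g i) := by
  choose img himg using hinv
  have key : ∀ (g : K) i j, ((g : M24) : Equiv.Perm GolayPt) (L i) = L j → img g.1 g.2 i = j :=
    fun g i j h => hL ((himg g.1 g.2 i).symm.trans h)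
  let toP : K → Equiv.Perm (Fin 6) := fun g =>
    { toFun := img g.1 g.2
      invFun := img (g⁻¹ : K).1 (g⁻¹ : K).2
      left_inv := fun i => key g⁻¹ _ _ (by
        rw [← himg g.1 g.2 i]
        exact perm_inv_apply ((g : M24) : Equiv.Perm GolayPt) (L i))
      right_inv := fun i => key g _ _ (by
        rw [← himg (g⁻¹ : K).1 (g⁻¹ : K).2 i]
        exact perm_apply_inv ((g : M24) : Equiv.Perm GolayPt) (L i)) }
  have htoP : ∀ (g : K) i, ((g : M24) : Equiv.Perm GolayPt) (L i) = L (toP g i) :=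
    fun g i => himg g.1 g.2 i
  let f : K →* Equiv.Perm (Fin 6) := MonoidHom.mk' toP fun a b => by
    ext i : 1
    refine key (a * b) i _ ?_
    show ((a : M24) : Equiv.Perm GolayPt) (((b : M24) : Equiv.Perm GolayPt) (L i)) = _
    rw [htoP b i, htoP a]; rfl
  refine ⟨f, ?_, htoP⟩
  rw [← MonoidHom.range_eq_top, eq_top_iff, ← closure_rotate_swap, Subgroup.closure_le]
  rintro σ (rfl | rfl)
  · obtain ⟨g, hg, h⟩ := hrot
    exact ⟨⟨g, hg⟩, Equiv.ext fun i => key ⟨g, hg⟩ i _ (h i)⟩
  · obtain ⟨g, hg, h⟩ := hswap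
    exact ⟨⟨g, hg⟩, Equiv.ext fun i => key ⟨g, hg⟩ i _ (h i)⟩

/-- With 720 elements this is an isomorphism. -/
theorem nonempty_iso_six {K : Subgroup M24} (hcard : Nat.card K = 720)
    {f : K →* Equiv.Perm (Fin 6)} (hf : Function.Surjective f) :
    Function.Bijective f ∧ Nonempty (K ≃* Equiv.Perm (Fin 6)) := by
  have hb : Function.Bijective f := hf.bijective_of_nat_card_le (by
    rw [hcard, Nat.card_perm, Nat.card_fin]; decide)
  exact ⟨hb, ⟨MulEquiv.ofBijective f hb⟩⟩

/-- The images of six listed points under a code. -/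
noncomputable def moves (c : ℕ) (pts tgt : List ℕ) : Bool :=
  good c && Nat.beq pts.length 6 && Nat.beq tgt.length 6 &&
    allLt 6 fun i => Nat.blt (pts.getD i 0) 24 && Nat.beq (app c (pts.getD i 0)) (tgt.getD i 0)

theorem moves_spec {c : ℕ} {pts tgt : List ℕ} (h : moves c pts tgt = true) (i : Fin 6) :
    pm c (Golay.pt (pts.getD i 0)) = Golay.pt (tgt.getD i 0) := by
  simp only [moves, Bool.and_eq_true, Nat.beq_eq] at h
  obtain ⟨⟨⟨hg, -⟩, -⟩, hall⟩ := h
  have h6 := allLt_spec hall i.1 i.2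
  simp only [Bool.and_eq_true, Nat.blt_eq, Nat.beq_eq] at h6
  have h1 := isPermOf_pm (good_ok hg) (Golay.pt (pts.getD i 0))
  rw [bit_pt h6.1, h6.2] at h1
  rw [h1, pt_bit]

end CfsgLib.M24Elt
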