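import Cfsg.Agent.Lib.M24Elt.Basic
import Cfsg.Agent.Lib.M24Elt.TableData
import Cfsg.Agent.Lib.GolayDesign.Octads

/-!
The octads, trios and sextets as tables of bit masks, and counting of the members fixed by coded
permutations.
-/

set_option autoImplicit false

namespace CfsgLib.M24Elt

open Cfsg CfsgLib.Comp CfsgLib.Golay
open scoped Pointwise

/-- The set of sets coded by a list of masks. -/
def mset (l : List ℕ) : Finset (Finset GolayPt) := (l.map toSet).toFinset

/-- Strictly increasing. -/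
def incr : List ℕ → Bool
  | [] => true
  | [_] => true
  | a :: b :: l => Nat.blt a b && incr (b :: l)

theorem incr_pairwise : ∀ {l : List ℕ}, incr l = true → l.Pairwise (· < ·)
  | [], _ => List.Pairwise.nil
  | [_], _ => List.pairwise_singleton _ _
  | a :: b :: l, h => by
    simp only [incr, Bool.and_eq_true, Nat.blt_eq] at h
    have ih := incr_pairwise h.2
    refine List.pairwise_cons.2 ⟨fun c hc => ?_, ih⟩
    rcases List.mem_cons.1 hc with rfl | hc
    · exact h.1
    · exact h.1.trans (List.rel_of_pairwise_cons ih hc)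

theorem mem_mset {l : List ℕ} {s : Finset GolayPt} : s ∈ mset l ↔ ∃ m ∈ l, toSet m = s := by
  simp [mset]

/-- Same members. -/
def sameM (a b : List ℕ) : Bool :=
  a.all (fun m => b.any (Nat.beq m)) && b.all (fun m => a.any (Nat.beq m))

theorem sameM_iff {a b : List ℕ} (ha : ∀ m ∈ a, m < 2 ^ 24) (hb : ∀ m ∈ b, m < 2 ^ 24) :
    sameM a b = true ↔ mset a = mset b := by
  have key : ∀ {a b : List ℕ}, (∀ m ∈ a, m < 2 ^ 24) → (∀ m ∈ b, m < 2 ^ 24) →
      ((a.all fun m => b.any (Nat.beq m)) = true ↔ mset a ⊆ mset b) := by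
    intro a b ha hb
    simp only [List.all_eq_true, List.any_eq_true, Finset.subset_iff, mem_mset]
    constructor
    · rintro h s ⟨m, hm, rfl⟩
      obtain ⟨n, hn, e⟩ := h m hm
      exact ⟨n, hn, by rw [Nat.eq_of_beq_eq_true e]⟩
    · intro h m hm
      obtain ⟨n, hn, e⟩ := h ⟨m, hm, rfl⟩
      refine ⟨n, hn, ?_⟩
      rw [toSet_inj (hb n hn) (ha m hm) e]
      exact Nat.beq_refl m
  rw [sameM, Bool.and_eq_true, key ha hb, key hb ha, Finset.Subset.antisymm_iff]

theorem mset_inj {a b : List ℕ} (hai : incr a = true) (hbi : incr b = true)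
    (ha : ∀ m ∈ a, m < 2 ^ 24) (hb : ∀ m ∈ b, m < 2 ^ 24) (h : mset a = mset b) : a = b := by
  have h' := (sameM_iff ha hb).2 h
  simp only [sameM, Bool.and_eq_true, List.all_eq_true, List.any_eq_true] at h'
  have pa := incr_pairwise hai
  have pb := incr_pairwise hbi
  have hperm : a.Perm b := by
    rw [List.perm_ext_iff_of_nodup (pa.imp Nat.ne_of_lt) (pb.imp Nat.ne_of_lt)]
    refine fun m => ⟨fun hm => ?_, fun hm => ?_⟩
    · obtain ⟨n, hn, e⟩ := h'.1 m hm; rwa [Nat.eq_of_beq_eq_true e]
    · obtain ⟨n, hn, e⟩ := h'.2 m hm; rwa [Nat.eq_of_beq_eq_true e]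
  exact hperm.eq_of_pairwise' pa pb

theorem card_mset {l : List ℕ} (hi : incr l = true) (hl : ∀ m ∈ l, m < 2 ^ 24) :
    (mset l).card = l.length := by
  rw [mset, List.toFinset_card_of_nodup, List.length_map]
  exact List.Nodup.map_on (fun a ha b hb e => toSet_inj (hl a ha) (hl b hb) e)
    ((incr_pairwise hi).imp Nat.ne_of_lt)

theorem push_lt {σ : Equiv.Perm GolayPt} {c : ℕ} (h : IsPermOf σ c) (n : ℕ) : push c n < 2 ^ 24 := by
  apply Nat.lt_pow_two_of_testBit
  intro i hi
  by_contra hne
  rw [Bool.not_eq_false, push, testBit_push_aux] at hne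
  obtain ⟨j, hj, -, hji⟩ := hne
  have h1 := h (Golay.pt j)
  rw [bit_pt hj] at h1
  have := bit_lt (σ (Golay.pt j))
  omega

theorem smul_mset {c : ℕ} (h : PermCode.Ok 24 c) (l : List ℕ) :
    pm c • mset l = mset (l.map (push c)) := by
  ext s
  simp only [Finset.mem_smul_finset, mem_mset, List.mem_map]
  constructor
  · rintro ⟨_, ⟨m, hm, rfl⟩, rfl⟩
    exact ⟨push c m, ⟨m, hm, rfl⟩, toSet_push (isPermOf_pm h) m⟩
  · rintro ⟨_, ⟨m, hm, rfl⟩, rfl⟩
    exact ⟨toSet m, ⟨m, hm, rfl⟩, (toSet_push (isPermOf_pm h) m).symm⟩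

theorem tab_lt : (TableData.octTab.all (fun m => Nat.blt m 16777216) &&
    TableData.trioTab.all (fun l => l.all (fun m => Nat.blt m 16777216) && incr l) &&
    TableData.sextTab.all (fun l => l.all (fun m => Nat.blt m 16777216) && incr l)) = true := by
  decide +kernel

theorem octTab_lt : ∀ m ∈ TableData.octTab, m < 2 ^ 24 := by
  intro m hm
  have h := tab_lt
  simp only [Bool.and_eq_true, List.all_eq_true, Nat.blt_eq] at h
  simpa using h.1.1 m hm

theorem trioTab_ok : ∀ l ∈ TableData.trioTab, (∀ m ∈ l, m < 2 ^ 24) ∧ incr l = true := by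
  intro l hl
  have h := tab_lt
  simp only [Bool.and_eq_true, List.all_eq_true, Nat.blt_eq] at h
  exact ⟨fun m hm => by simpa using (h.1.2 l hl).1 m hm, (h.1.2 l hl).2⟩

theorem sextTab_ok : ∀ l ∈ TableData.sextTab, (∀ m ∈ l, m < 2 ^ 24) ∧ incr l = true := by
  intro l hl
  have h := tab_lt
  simp only [Bool.and_eq_true, List.all_eq_true, Nat.blt_eq] at h
  exact ⟨fun m hm => by simpa using (h.2 l hl).1 m hm, (h.2 l hl).2⟩

/-- The octad test on masks. -/
def isOct (m : ℕ) : Bool := memb m && Nat.beq (pc24 m) 8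

theorem toSet_mem_octads {m : ℕ} (hm : m < 2 ^ 24) (h : isOct m = true) : toSet m ∈ octads := by
  simp only [isOct, Bool.and_eq_true] at h
  refine mem_octads.2 ⟨(toSet_mem_supports hm).2 h.1, ?_⟩
  rw [card_toSet, ← pc24_eq]
  exact Nat.eq_of_beq_eq_true h.2

theorem oct_check : (incr TableData.octTab && Nat.beq TableData.octTab.length 759 &&
    TableData.octTab.all isOct) = true := by decide +kernel

/-- The sum of the squares, to tell the rows apart. -/
def sqSum (l : List ℕ) : ℕ := (l.map fun m => m * m).sum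

theorem trio_check : (incr (TableData.trioTab.map sqSum) && Nat.beq TableData.trioTab.length 3795 &&
    TableData.trioTab.all (fun l => Nat.beq l.length 3 && l.all isOct &&
      l.all (fun a => l.all (fun b => Nat.beq a b || Nat.beq (a &&& b) 0)))) = true := by
  decide +kernel

theorem sext_check : (incr (TableData.sextTab.map sqSum) && Nat.beq TableData.sextTab.length 1771 &&
    TableData.sextTab.all (fun l => Nat.beq l.length 6 && l.all (fun a => Nat.beq (pc24 a) 4) &&
      l.all (fun a => l.all (fun b => Nat.beq a b || isOct (a ||| b))))) = true := by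
  decide +kernel

theorem octTab_nodup : TableData.octTab.Nodup := by
  have h := oct_check
  simp only [Bool.and_eq_true] at h
  exact (incr_pairwise h.1.1).imp Nat.ne_of_lt

theorem trioTab_nodup : TableData.trioTab.Nodup := by
  have h := trio_check
  simp only [Bool.and_eq_true] at h
  exact List.Nodup.of_map sqSum ((incr_pairwise h.1.1).imp Nat.ne_of_lt)

theorem sextTab_nodup : TableData.sextTab.Nodup := by
  have h := sext_check
  simp only [Bool.and_eq_true] at h
  exact List.Nodup.of_map sqSum ((incr_pairwise h.1.1).imp Nat.ne_of_lt)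

/-- A duplicate free list of the right length with values in a set lists the set. -/
theorem eq_image_of_table {α β : Type*} [DecidableEq β] {f : α → β} {tab : List α} {S : Set β}
    (hS : S.Finite) (hmem : ∀ a ∈ tab, f a ∈ S) (hnd : tab.Nodup)
    (hinj : ∀ a ∈ tab, ∀ b ∈ tab, f a = f b → a = b) (hcard : S.ncard ≤ tab.length) :
    S = ↑((tab.map f).toFinset) := by
  refine (Set.eq_of_subset_of_ncard_le ?_ ?_ hS).symm
  · intro b hb
    simp only [Finset.mem_coe, List.mem_toFinset, List.mem_map] at hb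
    obtain ⟨a, ha, rfl⟩ := hb
    exact hmem a ha
  · rw [Set.ncard_coe_finset, List.toFinset_card_of_nodup, List.length_map]
    · exact hcard
    · exact List.Nodup.map_on hinj hnd

theorem octads_eq : octads = ↑((TableData.octTab.map toSet).toFinset) := by
  have h := oct_check
  simp only [Bool.and_eq_true, List.all_eq_true] at h
  exact eq_image_of_table (Set.toFinite _)
    (fun m hm => toSet_mem_octads (octTab_lt m hm) (h.2 m hm)) octTab_nodup
    (fun a ha b hb e => toSet_inj (octTab_lt a ha) (octTab_lt b hb) e)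
    (by rw [ncard_octads, Nat.eq_of_beq_eq_true h.1.2])

theorem trios_eq : trios = ↑((TableData.trioTab.map mset).toFinset) := by
  have h := trio_check
  simp only [Bool.and_eq_true, List.all_eq_true] at h
  refine eq_image_of_table (Set.toFinite _) ?_ trioTab_nodup
    (fun a ha b hb e => mset_inj (trioTab_ok a ha).2 (trioTab_ok b hb).2 (trioTab_ok a ha).1 (trioTab_ok b hb).1 e)
    (by rw [GolayDesign.ncard_trios, Nat.eq_of_beq_eq_true h.1.2])
  intro l hl
  obtain ⟨⟨hlen, hoct⟩, hdis⟩ := h.2 l hl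
  refine ⟨?_, ?_, ?_⟩
  · rw [card_mset (trioTab_ok l hl).2 (trioTab_ok l hl).1, Nat.eq_of_beq_eq_true hlen]
  · intro o ho
    obtain ⟨m, hm, rfl⟩ := mem_mset.1 ho
    exact toSet_mem_octads ((trioTab_ok l hl).1 m hm) (hoct m hm)
  · intro o ho o' ho' hne
    obtain ⟨a, ha, rfl⟩ := mem_mset.1 ho
    obtain ⟨b, hb, rfl⟩ := mem_mset.1 ho'
    have h1 := hdis a ha b hb
    rw [Bool.or_eq_true] at h1
    rcases h1 with h1 | h1
    · exact absurd (by rw [Nat.eq_of_beq_eq_true h1]) hne
    · rw [Finset.disjoint_iff_inter_eq_empty, ← toSet_and, Nat.eq_of_beq_eq_true h1]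
      ext p; simp [mem_toSet]

theorem sextets_eq : sextets = ↑((TableData.sextTab.map mset).toFinset) := by
  have h := sext_check
  simp only [Bool.and_eq_true, List.all_eq_true] at h
  refine eq_image_of_table (Set.toFinite _) ?_ sextTab_nodup
    (fun a ha b hb e => mset_inj (sextTab_ok a ha).2 (sextTab_ok b hb).2 (sextTab_ok a ha).1 (sextTab_ok b hb).1 e)
    (by rw [GolayDesign.ncard_sextets, Nat.eq_of_beq_eq_true h.1.2])
  intro l hl
  obtain ⟨⟨hlen, hfour⟩, hun⟩ := h.2 l hl
  refine ⟨?_, ?_, ?_⟩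
  · rw [card_mset (sextTab_ok l hl).2 (sextTab_ok l hl).1, Nat.eq_of_beq_eq_true hlen]
  · intro o ho
    obtain ⟨m, hm, rfl⟩ := mem_mset.1 ho
    rw [card_toSet, ← pc24_eq]
    exact Nat.eq_of_beq_eq_true (hfour m hm)
  · intro o ho o' ho' hne
    obtain ⟨a, ha, rfl⟩ := mem_mset.1 ho
    obtain ⟨b, hb, rfl⟩ := mem_mset.1 ho'
    have h1 := hun a ha b hb
    rw [Bool.or_eq_true] at h1
    rcases h1 with h1 | h1
    · exact absurd (by rw [Nat.eq_of_beq_eq_true h1]) hne
    · rw [← toSet_or]
      exact toSet_mem_octads (Nat.or_lt_two_pow ((sextTab_ok l hl).1 a ha) ((sextTab_ok l hl).1 b hb)) h1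

/-- Counting the members of a tabled set with a decidable property. -/
theorem ncard_tab {α β : Type*} [DecidableEq β] {f : α → β} {tab : List α} {S : Set β}
    (hS : S = ↑((tab.map f).toFinset)) (hnd : tab.Nodup)
    (hinj : ∀ a ∈ tab, ∀ b ∈ tab, f a = f b → a = b) (P : β → Prop) (p : α → Bool)
    (hp : ∀ a ∈ tab, P (f a) ↔ p a = true) :
    {b | b ∈ S ∧ P b}.ncard = (tab.filter p).length := by
  have e : {b | b ∈ S ∧ P b} = ↑(((tab.filter p).map f).toFinset) := by
    ext b
    simp only [hS, Set.mem_ofPred_eq, Finset.mem_coe, List.mem_toFinset, List.mem_map, List.mem_filter]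
    constructor
    · rintro ⟨⟨a, ha, rfl⟩, hb⟩
      exact ⟨a, ⟨ha, (hp a ha).1 hb⟩, rfl⟩
    · rintro ⟨a, ⟨ha, hpa⟩, rfl⟩
      exact ⟨⟨a, ha, rfl⟩, (hp a ha).2 hpa⟩
  rw [e, Set.ncard_coe_finset, List.toFinset_card_of_nodup, List.length_map]
  exact List.Nodup.map_on (fun a ha b hb => hinj a (List.mem_filter.1 ha).1 b (List.mem_filter.1 hb).1)
    (hnd.filter p)

/-- The number of tabled octads fixed by a code. -/
noncomputable def fixedOct (c : ℕ) : ℕ := (TableData.octTab.filter fun m => Nat.beq (push c m) m).length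

/-- The number of rows of a table fixed by a code. -/
noncomputable def fixedRows (c : ℕ) (tab : List (List ℕ)) : ℕ :=
  (tab.filter fun l => sameM (l.map (push c)) l).length

theorem ncard_fixed_octads {c : ℕ} (h : PermCode.Ok 24 c) :
    {o | o ∈ octads ∧ pm c • o = o}.ncard = fixedOct c :=
  ncard_tab octads_eq octTab_nodup (fun a ha b hb e => toSet_inj (octTab_lt a ha) (octTab_lt b hb) e)
    (fun o => pm c • o = o) _ fun m hm => by
      rw [← toSet_push (isPermOf_pm h)]
      exact ⟨fun e => by rw [toSet_inj (push_lt (isPermOf_pm h) m) (octTab_lt m hm) e]; exact Nat.beq_refl m,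
        fun e => by rw [Nat.eq_of_beq_eq_true e]⟩

theorem ncard_fixed_trios {c : ℕ} (h : PermCode.Ok 24 c) :
    {T | T ∈ trios ∧ pm c • T = T}.ncard = fixedRows c TableData.trioTab :=
  ncard_tab trios_eq trioTab_nodup
    (fun a ha b hb e => mset_inj (trioTab_ok a ha).2 (trioTab_ok b hb).2 (trioTab_ok a ha).1 (trioTab_ok b hb).1 e)
    (fun T => pm c • T = T) _ fun l hl => by
      rw [smul_mset h, sameM_iff ?_ (trioTab_ok l hl).1]
      intro m hm
      obtain ⟨n, -, rfl⟩ := List.mem_map.1 hm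
      exact push_lt (isPermOf_pm h) n

theorem ncard_fixed_sextets {c : ℕ} (h : PermCode.Ok 24 c) :
    {S | S ∈ sextets ∧ pm c • S = S}.ncard = fixedRows c TableData.sextTab :=
  ncard_tab sextets_eq sextTab_nodup
    (fun a ha b hb e => mset_inj (sextTab_ok a ha).2 (sextTab_ok b hb).2 (sextTab_ok a ha).1 (sextTab_ok b hb).1 e)
    (fun T => pm c • T = T) _ fun l hl => by
      rw [smul_mset h, sameM_iff ?_ (sextTab_ok l hl).1]
      intro m hm
      obtain ⟨n, -, rfl⟩ := List.mem_map.1 hm
      exact push_lt (isPermOf_pm h) n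

end CfsgLib.M24Elt
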