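import Cfsg.Agent.Lib.M24Elt.Classes
import Cfsg.Agent.Lib.M24Elt.Tables

/-!
The action of M24 on trios and sextets, and transport of counts of fixed objects along conjugation.
-/

set_option autoImplicit false

namespace CfsgLib.M24Elt

open Cfsg CfsgLib.Comp CfsgLib.Golay
open scoped Pointwise

theorem smul_mem_trios' {g : Equiv.Perm GolayPt} (hg : g ∈ M24) {T : Finset (Finset GolayPt)}
    (hT : T ∈ trios) : g • T ∈ trios := by
  obtain ⟨h1, h2, h3⟩ := hT
  refine ⟨by rw [Finset.card_smul_finset, h1], fun o ho => ?_, fun o ho o' ho' hne => ?_⟩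
  · obtain ⟨a, ha, rfl⟩ := Finset.mem_smul_finset.1 ho
    exact (M24_smul_mem_octads hg).2 (h2 a ha)
  · obtain ⟨a, ha, rfl⟩ := Finset.mem_smul_finset.1 ho
    obtain ⟨b, hb, rfl⟩ := Finset.mem_smul_finset.1 ho'
    have h := h3 a ha b hb (fun e => hne (by rw [e]))
    rw [Finset.disjoint_iff_inter_eq_empty] at h ⊢
    rw [← Finset.smul_finset_inter, h, Finset.smul_finset_empty]

theorem smul_mem_trios {g : Equiv.Perm GolayPt} (hg : g ∈ M24) {T : Finset (Finset GolayPt)} :
    g • T ∈ trios ↔ T ∈ trios :=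
  ⟨fun h => by simpa using smul_mem_trios' (inv_mem hg) h, smul_mem_trios' hg⟩

theorem smul_mem_sextets' {g : Equiv.Perm GolayPt} (hg : g ∈ M24) {S : Finset (Finset GolayPt)}
    (hS : S ∈ sextets) : g • S ∈ sextets := by
  obtain ⟨h1, h2, h3⟩ := hS
  refine ⟨by rw [Finset.card_smul_finset, h1], fun o ho => ?_, fun o ho o' ho' hne => ?_⟩
  · obtain ⟨a, ha, rfl⟩ := Finset.mem_smul_finset.1 ho
    rw [Finset.card_smul_finset, h2 a ha]
  · obtain ⟨a, ha, rfl⟩ := Finset.mem_smul_finset.1 ho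
    obtain ⟨b, hb, rfl⟩ := Finset.mem_smul_finset.1 ho'
    rw [← Finset.smul_finset_union]
    exact (M24_smul_mem_octads hg).2 (h3 a ha b hb (fun e => hne (by rw [e])))

theorem smul_mem_sextets {g : Equiv.Perm GolayPt} (hg : g ∈ M24) {S : Finset (Finset GolayPt)} :
    g • S ∈ sextets ↔ S ∈ sextets :=
  ⟨fun h => by simpa using smul_mem_sextets' (inv_mem hg) h, smul_mem_sextets' hg⟩

/-- Conjugate elements fix equally many members of an invariant set. -/
theorem ncard_fixed_conj {G α : Type*} [Group G] [MulAction G α] {S : Set α} {u : G}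
    (hS : ∀ x, u • x ∈ S ↔ x ∈ S) (r : G) :
    {x | x ∈ S ∧ (u * r * u⁻¹) • x = x}.ncard = {x | x ∈ S ∧ r • x = x}.ncard := by
  rw [← Set.ncard_image_of_injective {x | x ∈ S ∧ r • x = x} (MulAction.injective u)]
  congr 1
  ext x
  constructor
  · rintro ⟨h1, h2⟩
    refine ⟨u⁻¹ • x, ⟨(hS _).1 (by rwa [smul_inv_smul]), ?_⟩, smul_inv_smul u x⟩
    rw [mul_smul, mul_smul, ← eq_inv_smul_iff] at h2
    exact h2
  · rintro ⟨y, ⟨h1, h2⟩, rfl⟩
    exact ⟨(hS y).2 h1, by rw [mul_smul, mul_smul, inv_smul_smul, h2]⟩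

theorem ncard_fixed_dodecads {c : ℕ} (h : PermCode.Ok 24 c) :
    {d | d ∈ dodecads ∧ pm c • d = d}.ncard =
      countR (fun x => let w := comb x; Nat.beq (pc24 w) 12 && Nat.beq (push c w) w) 12 0 :=
  ncard_filter_weight 12 (fun n => Nat.beq (push c n) n) (fun d => pm c • d = d) fun n hn => by
    rw [← toSet_push (isPermOf_pm h)]
    exact ⟨fun e => by rw [Nat.eq_of_beq_eq_true e],
      fun e => by rw [toSet_inj (push_lt (isPermOf_pm h) n) hn e]; exact Nat.beq_refl n⟩

theorem fixCard_eq_zero {g : Equiv.Perm GolayPt} (h : ∀ p, g p ≠ p) : fixCard g = 0 := by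
  rw [fixCard, Finset.card_eq_zero, Finset.filter_eq_empty_iff]
  exact fun p _ => h p

theorem exists_conj_2_8 {g : Equiv.Perm GolayPt} (hg : g ∈ M24) (h2 : orderOf g = 2)
    (h8 : fixCard g = 8) : ∃ u ∈ M24, u * pm ClassData.rep2_8 * u⁻¹ = g := by
  rcases involution_class hg h2 with h | h
  · exact h.2
  · omega

theorem exists_conj_2_0 {g : Equiv.Perm GolayPt} (hg : g ∈ M24) (h2 : orderOf g = 2)
    (h0 : fixCard g = 0) : ∃ u ∈ M24, u * pm ClassData.rep2_0 * u⁻¹ = g := by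
  rcases involution_class hg h2 with h | h
  · omega
  · exact h.2

theorem exists_conj_3_6 {g : Equiv.Perm GolayPt} (hg : g ∈ M24) (h3 : orderOf g = 3)
    (h6 : fixCard g = 6) : ∃ u ∈ M24, u * pm ClassData.rep3_6 * u⁻¹ = g := by
  rcases three_class hg h3 with h | h
  · exact h.2
  · omega

theorem exists_conj_3_0 {g : Equiv.Perm GolayPt} (hg : g ∈ M24) (h3 : orderOf g = 3)
    (h0 : fixCard g = 0) : ∃ u ∈ M24, u * pm ClassData.rep3_0 * u⁻¹ = g := by
  rcases three_class hg h3 with h | h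
  · omega
  · exact h.2

end CfsgLib.M24Elt
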