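import Cfsg.Agent.Lib.M24Elt.Forest
import Cfsg.Agent.Lib.Golay.Mathieu
import Cfsg.Agent.Lib.M24Elt.Orbit.AllTrio
import Cfsg.Agent.Lib.M24Elt.Orbit.AllSext

/-!
M24 is transitive on trios and on sextets; moving the base objects of the orbit certificates.
-/

set_option autoImplicit false

namespace CfsgLib.M24Elt

open Cfsg CfsgLib.Comp CfsgLib.Golay
open scoped Pointwise

theorem exists_smul_trio {T T' : Finset (Finset GolayPt)} (hT : T ∈ trios) (hT' : T' ∈ trios) :
    ∃ g ∈ M24, g • T = T' := by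
  obtain ⟨r, hr, rfl⟩ := tabTrios.mem_iff.1 hT
  obtain ⟨r', hr', rfl⟩ := tabTrios.mem_iff.1 hT'
  obtain ⟨g, hg, -, h⟩ := exists_map_of_orbitOk tabTrios.ok allTrio_orbit hr rfl hr' rfl
  exact ⟨g, hg, h⟩

theorem exists_smul_sextet {T T' : Finset (Finset GolayPt)} (hT : T ∈ sextets) (hT' : T' ∈ sextets) :
    ∃ g ∈ M24, g • T = T' := by
  obtain ⟨r, hr, rfl⟩ := tabSextets.mem_iff.1 hT
  obtain ⟨r', hr', rfl⟩ := tabSextets.mem_iff.1 hT'
  obtain ⟨g, hg, -, h⟩ := exists_map_of_orbitOk tabSextets.ok allSext_orbit hr rfl hr' rfl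
  exact ⟨g, hg, h⟩

theorem baseOct_mem : toSet 5279 ∈ octads := toSet_mem_octads (by norm_num) (by decide +kernel)

theorem exists_smul_baseOct {o : Finset GolayPt} (ho : o ∈ octads) :
    ∃ u ∈ M24, u • mset [5279] = {o} := by
  obtain ⟨u, hu, he⟩ := exists_smul_octad baseOct_mem ho
  exact ⟨u, hu, by rw [mset_singleton, Finset.smul_finset_singleton, he]⟩

theorem baseTrio_mem : mset [4038912, 4346506, 8391797] ∈ trios := by
  refine tabTrios.mem_iff.2 ⟨[4038912, 4346506, 8391797], ?_, rfl⟩
  rw [trioChunks_flatten]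
  decide +kernel

theorem exists_smul_baseTrio {T : Finset (Finset GolayPt)} (hT : T ∈ trios) :
    ∃ u ∈ M24, u • mset [4038912, 4346506, 8391797] = T :=
  exists_smul_trio baseTrio_mem hT

theorem baseSext_mem : mset [403456, 606272, 1081368, 2098434, 4194341, 8393344] ∈ sextets := by
  refine tabSextets.mem_iff.2 ⟨[403456, 606272, 1081368, 2098434, 4194341, 8393344], ?_, rfl⟩
  rw [sextChunks_flatten]
  decide +kernel

theorem exists_smul_baseSext {S : Finset (Finset GolayPt)} (hS : S ∈ sextets) :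
    ∃ u ∈ M24, u • mset [403456, 606272, 1081368, 2098434, 4194341, 8393344] = S :=
  exists_smul_sextet baseSext_mem hS

theorem smul_univ_sdiff (g : Equiv.Perm GolayPt) (d : Finset GolayPt) :
    g • (Finset.univ \ d) = Finset.univ \ (g • d) := by
  rw [Finset.smul_finset_sdiff, Finset.smul_finset_univ]

theorem baseDpair_eq : mset [340831, 16436384] =
    ({Spor.squareDodecad, Finset.univ \ Spor.squareDodecad} : Finset (Finset GolayPt)) := by
  have h : Finset.univ \ toSet 340831 = toSet 16436384 := by decide +kernel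
  rw [squareDodecad_eq, h]
  simp [mset]

theorem exists_smul_baseDpair {d : Finset GolayPt} (hd : d ∈ dodecads) :
    ∃ u ∈ M24, u • mset [340831, 16436384] = ({d, Finset.univ \ d} : Finset (Finset GolayPt)) := by
  obtain ⟨u, hu, rfl⟩ := exists_smul_dodecad squareDodecad_mem hd
  refine ⟨u, hu, ?_⟩
  rw [baseDpair_eq, Finset.smul_finset_insert, Finset.smul_finset_singleton, smul_univ_sdiff]

/-- Three orbits exhaust a set on which the invariant takes three values. -/
theorem eq_union_three {α : Type*} {S A B C : Set α} {f : α → ℕ} {a b c : ℕ}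
    (hA : A = {x | x ∈ S ∧ f x = a}) (hB : B = {x | x ∈ S ∧ f x = b})
    (hC : C = {x | x ∈ S ∧ f x = c}) (h : ∀ x ∈ S, f x ∈ [a, b, c]) : S = A ∪ B ∪ C := by
  subst hA hB hC
  ext x
  simp only [Set.mem_union, Set.mem_ofPred_eq]
  constructor
  · intro hx
    have := h x hx
    simp only [List.mem_cons, List.not_mem_nil, or_false] at this
    tauto
  · tauto

/-- Four orbits exhaust a set on which the invariant takes four values. -/
theorem eq_union_four {α : Type*} {S A B C D : Set α} {f : α → ℕ} {a b c d : ℕ}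
    (hA : A = {x | x ∈ S ∧ f x = a}) (hB : B = {x | x ∈ S ∧ f x = b})
    (hC : C = {x | x ∈ S ∧ f x = c}) (hD : D = {x | x ∈ S ∧ f x = d})
    (h : ∀ x ∈ S, f x ∈ [a, b, c, d]) : S = A ∪ B ∪ C ∪ D := by
  subst hA hB hC hD
  ext x
  simp only [Set.mem_union, Set.mem_ofPred_eq]
  constructor
  · intro hx
    have := h x hx
    simp only [List.mem_cons, List.not_mem_nil, or_false] at this
    tauto
  · tauto

end CfsgLib.M24Elt
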